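import Groth.Agent.L05.Hensel.Criteria
import Mathlib.RingTheory.KrullDimension.Zero

/-!
Permanence properties of henselian pairs.
-/

set_option autoImplicit false

open Polynomial

namespace Groth.L05

universe u v

variable {A : Type u} [CommRing A]

/-- An integral algebra over a henselian pair is henselian. -/
theorem henselianRing_map_of_isIntegral (I : Ideal A) [HenselianRing A I] (B : Type v) [CommRing B]
    [Algebra A B] [Algebra.IsIntegral A B] : HenselianRing B (I.map (algebraMap A B)) := by
  refine henselianRing_of_idem_bijOn _ fun C _ _ hC => ?_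
  let : Algebra A C := Algebra.compHom C (algebraMap A B)
  have : IsScalarTower A B C := IsScalarTower.of_algebraMap_eq' rfl
  have : Algebra.IsIntegral A C := Algebra.IsIntegral.trans B
  have h := idem_bijOn I C
  rwa [IsScalarTower.algebraMap_eq A B C, ← Ideal.map_map] at h

theorem henselianRing_quotient (I J : Ideal A) [HenselianRing A I] :
    HenselianRing (A ⧸ J) (I.map (Ideal.Quotient.mk J)) :=
  henselianRing_map_of_isIntegral I (A ⧸ J)

/-- A ring is henselian at the zero ideal. -/
theorem henselianRing_bot : HenselianRing A ⊥ := by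
  refine ⟨bot_le, fun f _ a₀ h1 _ => ⟨a₀, h1, by simp⟩⟩

theorem henselianRing_mono {I J : Ideal A} (hIJ : I ≤ J) [hJ : HenselianRing A J] :
    HenselianRing A I := by
  refine henselianRing_of_gabberRoots ⟨hIJ.trans hJ.jac, fun f n hn hf hmap => ?_⟩
  obtain ⟨α, hα, hroot⟩ := (gabberRoots_of_henselianRing J).2 f n hn hf (by
    have := congrArg (Polynomial.map (Ideal.Quotient.factor hIJ)) hmap
    rw [Polynomial.map_map, Ideal.Quotient.factor_comp_mk] at this
    simpa using this)
  refine ⟨α, ?_, hroot⟩
  have h0 := congrArg (eval (Ideal.Quotient.mk I α)) hmap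
  rw [eval_map_apply, hroot, map_zero] at h0
  have hu : IsUnit (Ideal.Quotient.mk I α) := (isUnit_of_sub_one_mem hJ.jac hα).map _
  simp only [eval_mul, eval_pow, eval_X, eval_sub, eval_one] at h0
  rw [← Ideal.Quotient.eq, map_one]
  exact sub_eq_zero.mp ((hu.pow n).mul_right_eq_zero.mp h0.symm)

/-- Being henselian passes through extensions. -/
theorem henselianRing_of_quotient {I J : Ideal A} (hIJ : I ≤ J) [hI : HenselianRing A I]
    [hJ : HenselianRing (A ⧸ I) (J.map (Ideal.Quotient.mk I))] : HenselianRing A J := by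
  have hjac : J ≤ Ideal.jacobson ⊥ := by
    intro x hx
    rw [Ideal.mem_jacobson_bot]
    intro y
    refine isUnit_of_isUnit_mk hI.jac ?_
    have := Ideal.mem_jacobson_bot.mp (hJ.jac (Ideal.mem_map_of_mem _ hx)) (Ideal.Quotient.mk I y)
    rwa [map_add, map_mul, map_one]
  refine ⟨hjac, fun f hf a₀ h1 h2 => ?_⟩
  obtain ⟨ā, hā, hā'⟩ := hJ.is_henselian (f.map (Ideal.Quotient.mk I)) (hf.map _)
    (Ideal.Quotient.mk I a₀) (by rw [eval_map_apply]; exact Ideal.mem_map_of_mem _ h1)
    (by
      rw [derivative_map, eval_map_apply]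
      exact ((isUnit_of_isUnit_mk hjac h2).map _).map _)
  obtain ⟨a₁, rfl⟩ := Ideal.Quotient.mk_surjective ā
  have ha₁ : a₁ - a₀ ∈ J := by
    rw [← map_sub] at hā'
    obtain ⟨j, hj, hj'⟩ := (Ideal.mem_map_iff_of_surjective _ Ideal.Quotient.mk_surjective).mp hā'
    have := add_mem (hIJ (Ideal.Quotient.eq.mp hj'.symm)) hj
    rwa [sub_add_cancel] at this
  obtain ⟨a, ha, ha'⟩ := hI.is_henselian f hf a₁
    (by rw [IsRoot.def, eval_map_apply, Ideal.Quotient.eq_zero_iff_mem] at hā; exact hā)
    (by
      refine (isUnit_of_isUnit_mk hjac ?_).map _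
      have : Ideal.Quotient.mk J (f.derivative.eval a₁) = Ideal.Quotient.mk J (f.derivative.eval a₀) := by
        rw [← eval_map_apply, ← eval_map_apply, Ideal.Quotient.eq.mpr ha₁]
      rw [this]; exact h2)
  exact ⟨a, ha, by simpa using add_mem (hIJ ha') ha₁⟩

theorem henselianRing_iff_of_le' {I J : Ideal A} (hIJ : I ≤ J) :
    HenselianRing A J ↔
      (HenselianRing A I ∧ HenselianRing (A ⧸ I) (J.map (Ideal.Quotient.mk I))) :=
  ⟨fun _ => ⟨henselianRing_mono hIJ, henselianRing_quotient J I⟩,
    fun ⟨_, _⟩ => henselianRing_of_quotient hIJ⟩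

/-- A ring is henselian at a locally nilpotent ideal. -/
theorem henselianRing_of_nil (I : Ideal A) (hI : ∀ x ∈ I, IsNilpotent x) : HenselianRing A I := by
  refine henselianRing_of_idem_bijOn _ fun B _ _ _ => ?_
  have hnil : ∀ z ∈ RingHom.ker (Ideal.Quotient.mk (I.map (algebraMap A B))), IsNilpotent z := by
    intro z hz
    rw [Ideal.mk_ker] at hz
    have hle : I.map (algebraMap A B) ≤ nilradical B := by
      rw [Ideal.map_le_iff_le_comap]
      exact fun x hx => (hI x hx).map _
    exact hle hz
  have hjac : I.map (algebraMap A B) ≤ Ideal.jacobson ⊥ := fun z hz =>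
    Ideal.radical_le_jacobson (hnil z (by rwa [Ideal.mk_ker]))
  refine ⟨fun e he => he.map _,
    fun _ he _ he' h => idem_eq_of_sub_mem hjac he he' (Ideal.Quotient.eq.mp h), fun z hz => ?_⟩
  obtain ⟨e, he, hez⟩ := exists_isIdempotentElem_eq_of_ker_isNilpotent _ hnil z
    (Ideal.Quotient.mk_surjective z) hz
  exact ⟨e, he, hez⟩

theorem henselianRing_radical (I : Ideal A) [h : HenselianRing A I] :
    HenselianRing A I.radical := by
  have : HenselianRing (A ⧸ I) (I.radical.map (Ideal.Quotient.mk I)) := by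
    refine henselianRing_of_nil _ fun z hz => ?_
    obtain ⟨x, ⟨m, hm⟩, rfl⟩ :=
      (Ideal.mem_map_iff_of_surjective _ Ideal.Quotient.mk_surjective).mp hz
    exact ⟨m, by rw [← map_pow, Ideal.Quotient.eq_zero_iff_mem]; exact hm⟩
  exact henselianRing_of_quotient Ideal.le_radical

theorem henselianRing_sup (I J : Ideal A) [HenselianRing A I] [HenselianRing A J] :
    HenselianRing A (I ⊔ J) := by
  have : HenselianRing (A ⧸ I) ((I ⊔ J).map (Ideal.Quotient.mk I)) := by
    rw [Ideal.map_sup, Ideal.map_quotient_self, bot_sup_eq]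
    exact henselianRing_quotient J I
  exact henselianRing_of_quotient le_sup_left

/-- The supremum of all ideals at which the ring is henselian is again one. -/
theorem henselianRing_sSup (A : Type u) [CommRing A] :
    HenselianRing A (sSup {J : Ideal A | HenselianRing A J}) := by
  set H := {J : Ideal A | HenselianRing A J}
  have hne : H.Nonempty := ⟨⊥, henselianRing_bot⟩
  have hdir : DirectedOn (· ≤ ·) H := fun J hJ K hK =>
    ⟨J ⊔ K, @henselianRing_sup _ _ J K hJ hK, le_sup_left, le_sup_right⟩
  refine ⟨sSup_le fun J hJ => hJ.jac, fun f hf a₀ h1 h2 => ?_⟩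
  obtain ⟨J, hJ, hJ1⟩ := (Submodule.mem_sSup_of_directed hne hdir).mp h1
  obtain ⟨a, ha, ha'⟩ := hJ.is_henselian f hf a₀ hJ1
    ((isUnit_of_isUnit_mk (sSup_le fun K hK => hK.jac) h2).map _)
  exact ⟨a, ha, le_sSup (s := H) hJ ha'⟩

/-- A local ring henselian at its maximal ideal is a henselian local ring. -/
theorem henselianLocalRing_of_henselianRing [IsLocalRing A]
    [h : HenselianRing A (IsLocalRing.maximalIdeal A)] : HenselianLocalRing A :=
  ⟨fun f hf a₀ h1 h2 => h.is_henselian f hf a₀ h1 (h2.map _)⟩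

theorem henselianLocalRing_of_ringKrullDim_eq_zero [IsLocalRing A] (h : ringKrullDim A = 0) :
    HenselianLocalRing A := by
  have : Ring.KrullDimLE 0 A := Ring.krullDimLE_iff.mpr h.le
  have := henselianRing_of_nil (IsLocalRing.maximalIdeal A) fun x hx =>
    Ring.KrullDimLE.isNilpotent_iff_mem_maximalIdeal.mpr hx
  exact henselianLocalRing_of_henselianRing

/-- The idempotents of the quotient of a domain by a henselian ideal are trivial. -/
theorem idem_quotient_domain [IsDomain A] (I : Ideal A) [HenselianRing A I] {z : A ⧸ I}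
    (hz : IsIdempotentElem z) : z = 0 ∨ z = 1 := by
  obtain ⟨u, rfl⟩ := Ideal.Quotient.mk_surjective z
  obtain ⟨e, he, heu⟩ := exists_idem_lift_of_finite I u
    (by rw [Algebra.algebraMap_self, Ideal.map_id, ← Ideal.Quotient.eq, map_mul]; exact hz)
  rw [Algebra.algebraMap_self, Ideal.map_id] at heu
  rw [← Ideal.Quotient.eq.mpr heu]
  rcases IsIdempotentElem.iff_eq_zero_or_one.mp he with rfl | rfl <;> simp

end Groth.L05
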