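import Groth.Agent.L05.Hensel.Perm
import Mathlib.RingTheory.Artinian.Module
import Mathlib.RingTheory.Spectrum.Prime.Noetherian

/-!
Algebras over henselian pairs and henselian local rings: splitting off the finite part.
-/

set_option autoImplicit false

open TopologicalSpace

namespace Groth.L05

universe u v

variable {A : Type u} [CommRing A]

/-- Splitting off the finite part of a finite type algebra over a henselian pair. -/
theorem exists_idem_finite_piece (I : Ideal A) [h : HenselianRing A I] {S : Type v} [CommRing S]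
    [Algebra A S] [Algebra.FiniteType A S] (ε : S) (hε : ε * ε - ε ∈ I.map (algebraMap A S))
    (hqf : ∀ p : Ideal S, ∀ [p.IsPrime], I.map (algebraMap A S) ≤ p → ε ∉ p →
      Algebra.QuasiFiniteAt A p)
    (hint : ∀ x : S, IsIntegral A
      (Ideal.Quotient.mk (I.map (algebraMap A S) ⊔ Ideal.span {1 - ε}) x)) :
    ∃ e : S, IsIdempotentElem e ∧ e - ε ∈ I.map (algebraMap A S) ∧
      Module.Finite A (S ⧸ Ideal.span ({1 - e} : Set S)) := by
  obtain ⟨C, t, v, hC, htC, ht, hvt, hvv, hvε, -⟩ := exists_prelift I ε hε hqf hint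
  have hfin : Module.Finite A C := ⟨(Submodule.fg_top _).mpr hC⟩
  obtain ⟨e, he, hev⟩ := exists_idem_lift_of_finite I v hvv
  refine ⟨e, he.map C.val, ?_, ?_⟩
  · rw [show (e : S) - ε = ((e - v : C) : S) + ((v : S) - ε) by push_cast; ring]
    refine add_mem ?_ hvε
    have := Ideal.mem_map_of_mem C.val hev
    rwa [show (I.map (algebraMap A C)).map C.val = I.map (algebraMap A S) from
      (Ideal.map_map (algebraMap A C) (C.val : C →+* S)).trans
        (congrArg (Ideal.map · I) (RingHom.ext fun a => rfl))] at this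
  · refine Module.Finite.of_surjective
      ((Ideal.Quotient.mkₐ A (Ideal.span ({1 - (e : S)} : Set S))).comp C.val).toLinearMap
      fun z => ?_
    obtain ⟨x, rfl⟩ := Ideal.Quotient.mk_surjective z
    refine ⟨⟨(e : S) * x, idem_piece_le h.jac hC htC ht hvt he hev x⟩, ?_⟩
    show Ideal.Quotient.mk _ ((e : S) * x) = Ideal.Quotient.mk _ x
    rw [Ideal.Quotient.eq, Ideal.mem_span_singleton']
    exact ⟨-x, by ring⟩

variable {S : Type v} [CommRing S] [Algebra A S]

/-- A point in the closed fibre which is isolated there is a quasi-finite point. -/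
theorem quasiFiniteAt_of_isOpen_singleton_closedFibre [IsLocalRing A] [Algebra.FiniteType A S]
    (x : PrimeSpectrum (S ⧸ (IsLocalRing.maximalIdeal A).map (algebraMap A S)))
    (hx : IsOpen ({x} : Set (PrimeSpectrum (S ⧸ (IsLocalRing.maximalIdeal A).map (algebraMap A S))))) :
    Algebra.QuasiFiniteAt A (x.asIdeal.comap (Ideal.Quotient.mk _)) := by
  set π := Ideal.Quotient.mk ((IsLocalRing.maximalIdeal A).map (algebraMap A S))
  have hemb := PrimeSpectrum.isClosedEmbedding_comap_of_surjective _ π Ideal.Quotient.mk_surjective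
  obtain ⟨V, hV, hVx⟩ := hemb.isInducing.isOpen_iff.mp hx
  refine Algebra.QuasiFiniteAt.of_isOpen_singleton_fiber (PrimeSpectrum.comap π x) ?_
  rw [isOpen_induced_iff]
  refine ⟨V, hV, ?_⟩
  ext ⟨q, hq⟩
  simp only [Set.mem_preimage, Set.mem_singleton_iff, Subtype.ext_iff]
  refine ⟨fun hqV => ?_, fun h => ?_⟩
  swap
  · exact h ▸ (hVx.ge rfl : x ∈ PrimeSpectrum.comap π ⁻¹' V)
  have hle : (IsLocalRing.maximalIdeal A).map (algebraMap A S) ≤ q.asIdeal := by
    rw [Ideal.map_le_iff_le_comap]
    have h1 : q.asIdeal.comap (algebraMap A S) =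
        (x.asIdeal.comap π).comap (algebraMap A S) := congrArg PrimeSpectrum.asIdeal hq
    rw [h1, ← Ideal.map_le_iff_le_comap]
    exact Ideal.mk_ker.ge.trans (Ideal.comap_mono bot_le : RingHom.ker π ≤ _)
  obtain ⟨y, rfl⟩ : q ∈ Set.range (PrimeSpectrum.comap π) := by
    rw [range_comap_of_surjective _ π Ideal.Quotient.mk_surjective,
      PrimeSpectrum.mem_zeroLocus]
    exact SetLike.coe_subset_coe.mpr (Ideal.mk_ker.le.trans hle)
  exact congrArg (PrimeSpectrum.comap π) (hVx.le hqV)

/-- In a finite type algebra over a field the isolated points form a finite clopen set. -/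
theorem finite_isolated_points {k F : Type*} [Field k] [CommRing F] [Algebra k F]
    [Algebra.FiniteType k F] :
    {x : PrimeSpectrum F | IsOpen ({x} : Set (PrimeSpectrum F))}.Finite ∧
    IsClopen {x : PrimeSpectrum F | IsOpen ({x} : Set (PrimeSpectrum F))} := by
  have : IsNoetherianRing F := Algebra.FiniteType.isNoetherianRing k F
  set U := {x : PrimeSpectrum F | IsOpen ({x} : Set (PrimeSpectrum F))}
  have hfin : U.Finite := by
    have hU : IsCompact U := NoetherianSpace.isCompact U
    refine hU.finite ?_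
    rw [isDiscrete_iff_forall_mem_exists_isOpen]
    intro x hx
    exact ⟨{x}, hx, by ext y; constructor <;> intro h <;> simp_all⟩
  refine ⟨hfin, ?_⟩
  rw [← Set.biUnion_of_singleton U]
  refine hfin.isClopen_biUnion fun x hx => ?_
  have := Algebra.QuasiFiniteAt.of_isOpen_singleton (R := k) x hx
  exact Algebra.QuasiFiniteAt.isClopen_singleton (R := k) x

/-- A finite type algebra over a henselian local ring is a finite algebra times an algebra which is
nowhere quasi-finite over the closed point. -/
theorem exists_idem_finiteType [h : HenselianLocalRing A] [Algebra.FiniteType A S] :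
    ∃ e : S, IsIdempotentElem e ∧ Module.Finite A (S ⧸ Ideal.span ({1 - e} : Set S)) ∧
      ∀ (q : Ideal S) [q.IsPrime], e ∈ q → q.LiesOver (IsLocalRing.maximalIdeal A) →
        ¬ Algebra.QuasiFiniteAt A q := by
  set I := IsLocalRing.maximalIdeal A
  set J := I.map (algebraMap A S)
  let k := A ⧸ I
  let : Field k := Ideal.Quotient.field I
  let F := S ⧸ J
  have : Algebra.FiniteType k F := Algebra.FiniteType.of_restrictScalars_finiteType A _ _
  obtain ⟨hUfin, hUclopen⟩ := finite_isolated_points (k := k) (F := F)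
  obtain ⟨ε', hε', hεU⟩ := PrimeSpectrum.exists_idempotent_basicOpen_eq_of_isClopen hUclopen
  obtain ⟨ε, rfl⟩ := Ideal.Quotient.mk_surjective ε'
  have hεJ : ε * ε - ε ∈ J := Ideal.Quotient.eq.mp (by rw [map_mul]; exact hε')
  have hiso : ∀ x : PrimeSpectrum F, IsOpen ({x} : Set (PrimeSpectrum F)) ↔
      Ideal.Quotient.mk J ε ∉ x.asIdeal := fun x => Set.ext_iff.mp hεU x
  let G := F ⧸ Ideal.span {1 - Ideal.Quotient.mk J ε}
  have hG : Module.Finite k G := by
    have : Algebra.FiniteType k G :=
      Algebra.FiniteType.of_surjective (Ideal.Quotient.mkₐ k _) Ideal.Quotient.mk_surjective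
    have : Algebra.QuasiFinite k G := by
      refine Algebra.QuasiFinite.iff_finite_comap_preimage_singleton.mpr fun P => ?_
      refine Set.Finite.subset ?_ (Set.subset_univ _)
      apply Set.Finite.of_finite_image (f := PrimeSpectrum.comap (Ideal.Quotient.mk _))
      · refine hUfin.subset ?_
        rintro _ ⟨y, -, rfl⟩
        refine (hiso _).mpr ?_
        intro hmem
        have h1 : Ideal.Quotient.mk (Ideal.span {1 - Ideal.Quotient.mk J ε})
            (1 - Ideal.Quotient.mk J ε) = 0 :=
          Ideal.Quotient.eq_zero_iff_mem.mpr (Ideal.mem_span_singleton_self _)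
        rw [map_sub, map_one, sub_eq_zero] at h1
        exact y.isPrime.ne_top ((Ideal.eq_top_iff_one _).mpr (h1 ▸ hmem))
      · exact (PrimeSpectrum.isClosedEmbedding_comap_of_surjective _ _
          Ideal.Quotient.mk_surjective).injective.injOn
    exact Module.Finite.of_quasiFinite
  have hint : ∀ x : S, IsIntegral A (Ideal.Quotient.mk (J ⊔ Ideal.span {1 - ε}) x) := by
    intro x
    have : Module.Finite A k :=
      Module.Finite.of_surjective (Algebra.linearMap A k) Ideal.Quotient.mk_surjective
    have : Module.Finite A G := Module.Finite.trans k G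
    have hker : J ⊔ Ideal.span {1 - ε} = RingHom.ker ((Ideal.Quotient.mkₐ A
        (Ideal.span {1 - Ideal.Quotient.mk J ε})).comp (Ideal.Quotient.mkₐ A J)).toRingHom := by
      show _ = RingHom.ker ((Ideal.Quotient.mk _).comp (Ideal.Quotient.mk J))
      have hsp : Ideal.span {1 - Ideal.Quotient.mk J ε} =
          (Ideal.span {1 - ε}).map (Ideal.Quotient.mk J) := by
        rw [Ideal.map_span, Set.image_singleton, map_sub, map_one]
      rw [← RingHom.comap_ker, Ideal.mk_ker, hsp,
        Ideal.comap_map_of_surjective _ Ideal.Quotient.mk_surjective, ← RingHom.ker_eq_comap_bot,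
        Ideal.mk_ker, sup_comm]
    let ψ : (S ⧸ (J ⊔ Ideal.span {1 - ε})) →ₐ[A] G :=
      Ideal.Quotient.liftₐ _
        ((Ideal.Quotient.mkₐ A (Ideal.span {1 - Ideal.Quotient.mk J ε})).comp (Ideal.Quotient.mkₐ A J))
        hker.le
    have hinj : Function.Injective ψ :=
      RingHom.lift_injective_of_ker_le_ideal _ hker.le hker.ge
    exact (isIntegral_algHom_iff ψ hinj).mp (Algebra.IsIntegral.isIntegral _)
  have hqf : ∀ p : Ideal S, ∀ [p.IsPrime], J ≤ p → ε ∉ p → Algebra.QuasiFiniteAt A p := by
    intro p _ hJp hεp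
    have : (p.map (Ideal.Quotient.mk J)).IsPrime :=
      Ideal.map_isPrime_of_surjective Ideal.Quotient.mk_surjective (by rwa [Ideal.mk_ker])
    have hcomap : (p.map (Ideal.Quotient.mk J)).comap (Ideal.Quotient.mk J) = p := by
      rw [Ideal.comap_map_of_surjective _ Ideal.Quotient.mk_surjective, ← RingHom.ker_eq_comap_bot,
        Ideal.mk_ker, sup_eq_left.mpr hJp]
    have hopen : IsOpen ({⟨p.map (Ideal.Quotient.mk J), inferInstance⟩} : Set (PrimeSpectrum F)) := by
      rw [hiso]
      intro hmem
      exact hεp (hcomap ▸ (Ideal.mem_comap.mpr hmem) : ε ∈ p)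
    have := quasiFiniteAt_of_isOpen_singleton_closedFibre _ hopen
    convert this using 2
    exact hcomap.symm
  obtain ⟨e, he, heε, hfin⟩ := exists_idem_finite_piece I ε hεJ hqf hint
  refine ⟨e, he, hfin, fun q _ heq hover hqf => ?_⟩
  have hJq : J ≤ q := Ideal.map_le_iff_le_comap.mpr hover.over.le
  have : (q.map (Ideal.Quotient.mk J)).IsPrime :=
    Ideal.map_isPrime_of_surjective Ideal.Quotient.mk_surjective (by rwa [Ideal.mk_ker])
  have hcomap : (q.map (Ideal.Quotient.mk J)).comap (Ideal.Quotient.mk J) = q := by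
    rw [Ideal.comap_map_of_surjective _ Ideal.Quotient.mk_surjective, ← RingHom.ker_eq_comap_bot,
      Ideal.mk_ker, sup_eq_left.mpr hJq]
  have : Algebra.QuasiFiniteAt A (q.map (Ideal.Quotient.mk J)) :=
    Algebra.QuasiFiniteAt.of_surjectiveOnStalks q (Ideal.Quotient.mkₐ A J)
      (RingHom.surjectiveOnStalks_of_surjective Ideal.Quotient.mk_surjective) _ hcomap.symm
  have : Algebra.QuasiFiniteAt k (q.map (Ideal.Quotient.mk J)) :=
    Algebra.QuasiFinite.of_restrictScalars (R := A) _ _
  have hopen := (Algebra.QuasiFiniteAt.isClopen_singleton (R := k)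
    (⟨q.map (Ideal.Quotient.mk J), inferInstance⟩ : PrimeSpectrum F)).isOpen
  rw [hiso] at hopen
  refine hopen (Ideal.mem_map_of_mem _ ?_)
  have := sub_mem heq (hJq heε)
  rwa [sub_sub_cancel] at this

end Groth.L05
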