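import Groth.Agent.L05.Hensel.Product
import Mathlib.FieldTheory.PurelyInseparable.Basic
import Mathlib.FieldTheory.IsSepClosed

/-!
# Integral domains integral over henselian local rings
-/

open IsLocalRing

namespace Groth.L05

universe u

theorem henselianLocalRing_of_integral {A : Type u} [CommRing A] [HenselianLocalRing A] (S : Type u)
    [CommRing S] [IsLocalRing S] [Algebra A S] [Algebra.IsIntegral A S] : HenselianLocalRing S := by
  have := henselianRing_map_of_isIntegral (maximalIdeal A) S
  have := henselianRing_radical ((maximalIdeal A).map (algebraMap A S))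
  have hle : maximalIdeal S ≤ ((maximalIdeal A).map (algebraMap A S)).radical := by
    rw [Ideal.radical_eq_sInf, le_sInf_iff]
    rintro P ⟨hP, hPp⟩
    have hPmax : P.IsMaximal := by
      refine Ideal.isMaximal_of_isIntegral_of_isMaximal_comap (R := A) P ?_
      have := (maximalIdeal.isMaximal A).eq_of_le (Ideal.comap_ne_top _ hPp.ne_top)
        (Ideal.map_le_iff_le_comap.mp hP)
      exact this ▸ maximalIdeal.isMaximal A
    exact (eq_maximalIdeal hPmax).ge
  have := henselianRing_mono hle
  exact henselianLocalRing_of_henselianRing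

theorem isLocalRing_of_finite_domain {A : Type u} [CommRing A] [HenselianLocalRing A] (C : Type u)
    [CommRing C] [IsDomain C] [Algebra A C] [Module.Finite A C] : IsLocalRing C := by
  obtain ⟨ι, _, e, he, hloc⟩ := exists_idem_local_of_finite (A := A) C
  have : ∃ i, e i ≠ 0 := by
    by_contra h
    push Not at h
    exact one_ne_zero (α := C) (he.complete.symm.trans (Finset.sum_eq_zero fun i _ => h i))
  obtain ⟨i, hi⟩ := this
  have h1 : e i = 1 := (IsIdempotentElem.iff_eq_zero_or_one.mp (he.idem i)).resolve_left hi
  haveI := hloc i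
  have hbot : Ideal.span ({1 - e i} : Set C) = ⊥ := by simp [h1]
  exact ((Ideal.quotEquivOfEq hbot).trans (RingEquiv.quotientBot C)).isLocalRing

theorem isLocalRing_of_integral_domain {A : Type u} [CommRing A] [HenselianLocalRing A] (B : Type u)
    [CommRing B] [IsDomain B] [Algebra A B] [Algebra.IsIntegral A B] : IsLocalRing B := by
  refine IsLocalRing.of_isUnit_or_isUnit_one_sub_self fun x => ?_
  haveI : Module.Finite A (Algebra.adjoin A ({x} : Set B)) :=
    ⟨(Submodule.fg_top _).mpr (Algebra.IsIntegral.isIntegral x).fg_adjoin_singleton⟩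
  haveI := isLocalRing_of_finite_domain (A := A) (Algebra.adjoin A ({x} : Set B))
  rcases IsLocalRing.isUnit_or_isUnit_one_sub_self
    (⟨x, Algebra.subset_adjoin rfl⟩ : Algebra.adjoin A ({x} : Set B)) with h | h
  · exact Or.inl (h.map (Algebra.adjoin A ({x} : Set B)).val)
  · refine Or.inr ?_
    simpa using h.map (Algebra.adjoin A ({x} : Set B)).val

theorem isPurelyInseparable_of_isSepClosed_base (k E : Type u) [Field k] [Field E] [Algebra k E]
    [IsSepClosed k] [Algebra.IsAlgebraic k E] : IsPurelyInseparable k E :=
  separableClosure.eq_bot_iff.mp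
    (IntermediateField.eq_bot_of_isSepClosed_of_isSeparable (separableClosure k E))

theorem isSepClosed_of_algebraic (k E : Type u) [Field k] [Field E] [Algebra k E]
    [IsSepClosed k] [Algebra.IsAlgebraic k E] : IsSepClosed E := by
  refine IsSepClosed.of_exists_root E fun p hpm hirr hsep => ?_
  haveI : Fact (Irreducible p) := ⟨hirr⟩
  haveI : Algebra.IsAlgebraic E (AdjoinRoot p) := by
    haveI := hpm.finite_adjoinRoot
    infer_instance
  haveI : Algebra.IsAlgebraic k (AdjoinRoot p) := Algebra.IsAlgebraic.trans k E (AdjoinRoot p)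
  haveI := isPurelyInseparable_of_isSepClosed_base k (AdjoinRoot p)
  haveI : IsPurelyInseparable E (AdjoinRoot p) := IsPurelyInseparable.tower_top k E (AdjoinRoot p)
  obtain ⟨y, hy⟩ := IsPurelyInseparable.inseparable E (AdjoinRoot.root p) (by
    refine Polynomial.Separable.of_dvd hsep (minpoly.dvd E _ ?_)
    rw [AdjoinRoot.aeval_eq, AdjoinRoot.mk_self])
  refine ⟨y, (AdjoinRoot.of p).injective ?_⟩
  rw [map_zero, ← Polynomial.eval₂_at_apply, show (AdjoinRoot.of p) y = AdjoinRoot.root p from hy]
  exact AdjoinRoot.eval₂_root p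

end Groth.L05
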