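import Groth.Agent.L05.Hensel.Perm
import Mathlib.RingTheory.Artinian.Module
import Mathlib.RingTheory.Idempotents

/-!
Finite algebras over henselian local rings are products of local rings.
-/

set_option autoImplicit false

open IsLocalRing

namespace Groth.L05

universe u v

variable {A : Type u} [CommRing A]

/-- A ring whose idempotents modulo an ideal in the Jacobson radical are trivial, and whose quotient
is a product of local rings, is a product of local rings. -/
theorem exists_completeOrthogonalIdempotents_lift {S : Type v} [CommRing S] (J : Ideal S)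
    (hJ : J ≤ Ideal.jacobson ⊥)
    (hlift : ∀ z : S ⧸ J, IsIdempotentElem z → ∃ e, IsIdempotentElem e ∧ Ideal.Quotient.mk J e = z)
    {ι : Type*} [Fintype ι] {z : ι → S ⧸ J} (hz : CompleteOrthogonalIdempotents z) :
    ∃ e : ι → S, CompleteOrthogonalIdempotents e ∧ ∀ i, Ideal.Quotient.mk J (e i) = z i := by
  classical
  choose e he hez using fun i => hlift (z i) (hz.idem i)
  have hinj : ∀ a b : S, IsIdempotentElem a → IsIdempotentElem b →
      Ideal.Quotient.mk J a = Ideal.Quotient.mk J b → a = b := fun a b ha hb h =>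
    idem_eq_of_sub_mem hJ ha hb (Ideal.Quotient.eq.mp h)
  have hortho : OrthogonalIdempotents e := by
    refine ⟨he, fun i j hij => hinj _ _ ((he i).mul (he j)) IsIdempotentElem.zero ?_⟩
    rw [map_mul, hez, hez, map_zero]
    exact hz.ortho hij
  refine ⟨e, ⟨hortho, hinj _ _ hortho.isIdempotentElem_sum IsIdempotentElem.one ?_⟩, hez⟩
  rw [map_sum, map_one, ← hz.complete]
  exact Finset.sum_congr rfl fun i _ => hez i

theorem isLocalRing_of_isLocalRing_quotient {S : Type v} [CommRing S] {J : Ideal S}
    (hJ : J ≤ Ideal.jacobson ⊥) [IsLocalRing (S ⧸ J)] : IsLocalRing S := by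
  have : Nontrivial S := (Ideal.Quotient.mk J).domain_nontrivial
  refine IsLocalRing.of_isUnit_or_isUnit_one_sub_self fun a => ?_
  rcases IsLocalRing.isUnit_or_isUnit_one_sub_self (Ideal.Quotient.mk J a) with h | h
  · exact Or.inl (isUnit_of_isUnit_mk hJ h)
  · exact Or.inr (isUnit_of_isUnit_mk hJ (by rwa [map_sub, map_one]))

/-- An idempotent lifting a primitive idempotent of the quotient cuts out a local ring. -/
theorem isLocalRing_corner {S : Type v} [CommRing S] {J : Ideal S}
    (hJ : J ≤ Ideal.jacobson ⊥) (e : S) {L : Type*} [CommRing L] [IsLocalRing L]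
    (f : S →+* L) (hf : Function.Surjective f)
    (hker : RingHom.ker f = J ⊔ Ideal.span {1 - e}) :
    IsLocalRing (S ⧸ Ideal.span ({1 - e} : Set S)) := by
  set K := Ideal.span ({1 - e} : Set S)
  have hJ' : J.map (Ideal.Quotient.mk K) ≤ Ideal.jacobson ⊥ := map_le_jacobson_bot (A := S) hJ
  let E : ((S ⧸ K) ⧸ J.map (Ideal.Quotient.mk K)) ≃+* L :=
    (DoubleQuot.quotQuotEquivQuotSup K J).trans
      ((Ideal.quotEquivOfEq (by rw [hker, sup_comm])).trans
        (RingHom.quotientKerEquivOfSurjective hf))
  have : IsLocalRing ((S ⧸ K) ⧸ J.map (Ideal.Quotient.mk K)) := E.symm.isLocalRing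
  exact isLocalRing_of_isLocalRing_quotient hJ'

/-- A finite algebra over a local ring with liftable idempotents is a product of local factors. -/
theorem exists_idem_local_of_surjOn [IsLocalRing A] (S : Type v) [CommRing S] [Algebra A S]
    [Module.Finite A S]
    (hsurj : Set.SurjOn (Ideal.Quotient.mk (Ideal.map (algebraMap A S) (maximalIdeal A)))
      {e : S | IsIdempotentElem e} {e | IsIdempotentElem e}) :
    ∃ (ι : Type v) (_ : Fintype ι) (e : ι → S), CompleteOrthogonalIdempotents e ∧
      ∀ i, IsLocalRing (S ⧸ Ideal.span ({1 - e i} : Set S)) := by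
  classical
  set J := (maximalIdeal A).map (algebraMap A S)
  have hJ : J ≤ Ideal.jacobson ⊥ := map_le_jacobson_bot (maximalIdeal_le_jacobson _)
  let k := A ⧸ maximalIdeal A
  let : Field k := Ideal.Quotient.field _
  have : Module.Finite k (S ⧸ J) := Module.Finite.of_restrictScalars_finite A k _
  have : IsArtinianRing (S ⧸ J) := isArtinian_of_tower k inferInstance
  have hfin : Finite (MaximalSpectrum (S ⧸ J)) := inferInstance
  have := Fintype.ofFinite (MaximalSpectrum (S ⧸ J))
  obtain ⟨n, hn⟩ := IsArtinianRing.isNilpotent_jacobson_bot (R := S ⧸ J)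
  let I : MaximalSpectrum (S ⧸ J) → Ideal (S ⧸ J) := fun M => M.asIdeal ^ (n + 1)
  have hcop : Pairwise fun i j => IsCoprime (I i) (I j) := fun i j hij =>
    (Ideal.isCoprime_iff_sup_eq.mpr (i.isMaximal.coprime_of_ne j.isMaximal
      fun h => hij (MaximalSpectrum.ext h))).pow
  have hinf : ⨅ M, I M = ⊥ := by
    have h1 : ∏ M, I M = ⨅ M, I M := by
      rw [Ideal.prod_eq_iInf_of_pairwise_isCoprime]
      · simp
      · exact fun i _ j _ hij => hcop hij
    rw [← h1, Finset.prod_pow]
    have h2 : ∏ M : MaximalSpectrum (S ⧸ J), M.asIdeal ≤ Ideal.jacobson ⊥ := by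
      rw [Ideal.jacobson, le_sInf_iff]
      rintro M ⟨-, hM⟩
      exact Ideal.prod_le_inf.trans (Finset.inf_le (f := MaximalSpectrum.asIdeal)
        (b := (⟨M, hM⟩ : MaximalSpectrum (S ⧸ J))) (Finset.mem_univ _))
    exact le_bot_iff.mp ((Ideal.pow_right_mono h2 _).trans (by
      rw [pow_succ, hn]; simp))
  let Ψ : (S ⧸ J) ≃+* ∀ M, (S ⧸ J) ⧸ I M :=
    ((RingEquiv.quotientBot _).symm.trans (Ideal.quotEquivOfEq hinf.symm)).trans
      (Ideal.quotientInfRingEquivPiQuotient I hcop)
  have hz : CompleteOrthogonalIdempotents fun M => Ψ.symm (Pi.single M 1) :=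
    (CompleteOrthogonalIdempotents.single fun M : MaximalSpectrum (S ⧸ J) => (S ⧸ J) ⧸ I M).map
      Ψ.symm.toRingHom
  obtain ⟨e, he, hez⟩ := exists_completeOrthogonalIdempotents_lift J hJ (fun z hz => by
    obtain ⟨e, he, h⟩ := hsurj hz
    exact ⟨e, he, h⟩) hz
  refine ⟨MaximalSpectrum (S ⧸ J), inferInstance, e, he, fun M => ?_⟩
  have hloc : IsLocalRing ((S ⧸ J) ⧸ I M) := by
    have : Nontrivial ((S ⧸ J) ⧸ I M) := Ideal.Quotient.nontrivial_iff.mpr fun h =>
      M.isMaximal.ne_top (top_unique (h ▸ Ideal.pow_le_self n.succ_ne_zero))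
    refine IsLocalRing.of_unique_max_ideal ⟨M.asIdeal.map (Ideal.Quotient.mk (I M)), ?_, ?_⟩
    · refine (Ideal.map_eq_top_or_isMaximal_of_surjective _ Ideal.Quotient.mk_surjective
        M.isMaximal).resolve_left ?_
      intro h
      have := congrArg (Ideal.comap (Ideal.Quotient.mk (I M))) h
      rw [Ideal.comap_map_of_surjective _ Ideal.Quotient.mk_surjective, ← RingHom.ker_eq_comap_bot,
        Ideal.mk_ker, Ideal.comap_top, sup_eq_left.mpr (Ideal.pow_le_self n.succ_ne_zero)] at this
      exact M.isMaximal.ne_top this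
    · intro N hN
      have hN' := Ideal.comap_isMaximal_of_surjective (Ideal.Quotient.mk (I M))
        Ideal.Quotient.mk_surjective (K := N)
      have hle : M.asIdeal ≤ N.comap (Ideal.Quotient.mk (I M)) := by
        refine hN'.isPrime.le_of_pow_le (n := n + 1) ?_
        exact Ideal.mk_ker.ge.trans (Ideal.comap_mono bot_le : RingHom.ker _ ≤ _)
      rw [← Ideal.map_comap_of_surjective _ Ideal.Quotient.mk_surjective N,
        ← M.isMaximal.eq_of_le hN'.ne_top hle]
  refine isLocalRing_corner hJ (e M)
    (((Pi.evalRingHom _ M).comp Ψ.toRingHom).comp (Ideal.Quotient.mk J)) ?_ ?_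
  · intro y
    obtain ⟨x, hx⟩ := Ψ.surjective (Pi.single M y)
    obtain ⟨s, rfl⟩ := Ideal.Quotient.mk_surjective x
    exact ⟨s, by simp [hx]⟩
  · refine le_antisymm ?_ ?_
    · intro s hs
      have hs' : Ψ (Ideal.Quotient.mk J s) M = 0 := hs
      have h1 : Ideal.Quotient.mk J (e M * s) = 0 := by
        apply Ψ.injective
        rw [map_mul, map_mul, hez, RingEquiv.apply_symm_apply, map_zero]
        ext N
        rcases eq_or_ne N M with rfl | hNM
        · simp [hs']
        · simp [hNM]
      rw [show s = e M * s + s * (1 - e M) by ring]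
      exact add_mem (Ideal.mem_sup_left (Ideal.Quotient.eq_zero_iff_mem.mp h1))
        (Ideal.mem_sup_right (Ideal.mul_mem_left _ _ (Ideal.mem_span_singleton_self _)))
    · rw [sup_le_iff, Ideal.span_le]
      refine ⟨fun s hs => ?_, ?_⟩
      · show Ψ (Ideal.Quotient.mk J s) M = 0
        rw [Ideal.Quotient.eq_zero_iff_mem.mpr hs, map_zero, Pi.zero_apply]
      · rintro _ rfl
        show Ψ (Ideal.Quotient.mk J (1 - e M)) M = 0
        rw [map_sub, map_one, hez, map_sub, map_one, RingEquiv.apply_symm_apply]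
        simp

/-- A finite algebra over a henselian local ring is a product of its local factors. -/
theorem exists_idem_local_of_finite [HenselianLocalRing A] (S : Type v) [CommRing S] [Algebra A S]
    [Module.Finite A S] :
    ∃ (ι : Type v) (_ : Fintype ι) (e : ι → S), CompleteOrthogonalIdempotents e ∧
      ∀ i, IsLocalRing (S ⧸ Ideal.span ({1 - e i} : Set S)) :=
  exists_idem_local_of_surjOn S (idem_bijOn (maximalIdeal A) S).surjOn

/-- A finite algebra over a henselian local ring is a product of local rings. -/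
theorem exists_ringEquiv_pi_of_finite [HenselianLocalRing A] (S : Type v) [CommRing S] [Algebra A S]
    [Module.Finite A S] :
    ∃ (ι : Type v) (_ : Fintype ι) (B : ι → Type v) (_ : ∀ i, CommRing (B i)),
      (∀ i, IsLocalRing (B i)) ∧ Nonempty (S ≃+* (∀ i, B i)) := by
  obtain ⟨ι, hι, e, he, hloc⟩ := exists_idem_local_of_finite (A := A) S
  exact ⟨ι, hι, fun i => S ⧸ Ideal.span ({1 - e i} : Set S), inferInstance, hloc,
    ⟨RingEquiv.ofBijective _ he.bijective_pi⟩⟩

/-- Idempotents lift in a product of local rings. -/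
theorem surjOn_idem_of_ringEquiv_pi {S : Type v} [CommRing S] (J : Ideal S) {ι : Type*}
    {B : ι → Type*} [∀ i, CommRing (B i)] [∀ i, IsLocalRing (B i)] (Φ : S ≃+* (∀ i, B i)) :
    Set.SurjOn (Ideal.Quotient.mk J) {e : S | IsIdempotentElem e} {e | IsIdempotentElem e} := by
  intro z hz
  obtain ⟨u, rfl⟩ := Ideal.Quotient.mk_surjective z
  have key : ∀ i, ∃ δ c : B i, δ * δ = δ ∧ δ - Φ u i = c * (Φ u i * Φ u i - Φ u i) := by
    intro i
    rcases IsLocalRing.isUnit_or_isUnit_one_sub_self (Φ u i) with hu | hu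
    · obtain ⟨w, hw⟩ := hu.exists_left_inv
      exact ⟨1, -w, one_mul 1, by linear_combination (Φ u i - 1) * hw⟩
    · obtain ⟨w, hw⟩ := hu.exists_left_inv
      exact ⟨0, w, mul_zero 0, by linear_combination (Φ u i) * hw⟩
  choose δ c hδ hc using key
  refine ⟨Φ.symm δ, IsIdempotentElem.map (funext hδ) Φ.symm, ?_⟩
  rw [Ideal.Quotient.eq]
  have : Φ.symm δ - u = Φ.symm c * (u * u - u) := by
    apply Φ.injective
    simp only [map_sub, map_mul, RingEquiv.apply_symm_apply]
    funext i
    exact hc i
  rw [this]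
  exact Ideal.mul_mem_left _ _ (Ideal.Quotient.eq.mp (by rw [map_mul]; exact hz))

/-- If all finite algebras are products of local rings, then the local ring is henselian. -/
theorem henselianLocalRing_of_pi {A : Type u} [CommRing A] [IsLocalRing A]
    (h : ∀ (S : Type u) [CommRing S] [Algebra A S], Module.Finite A S →
      ∃ (ι : Type u) (_ : Fintype ι) (B : ι → Type u) (_ : ∀ i, CommRing (B i)),
        (∀ i, IsLocalRing (B i)) ∧ Nonempty (S ≃+* (∀ i, B i))) :
    HenselianLocalRing A := by
  have : HenselianRing A (maximalIdeal A) := by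
    refine henselianRing_of_surjOn_adjoinRoot _ (maximalIdeal_le_jacobson _) fun f hf => ?_
    obtain ⟨ι, _, B, _, hloc, ⟨Φ⟩⟩ := h (AdjoinRoot f) hf.finite_adjoinRoot
    exact surjOn_idem_of_ringEquiv_pi _ Φ
  exact henselianLocalRing_of_henselianRing

/-- A finite local algebra over a henselian local ring is henselian. -/
theorem henselianLocalRing_of_finite [HenselianLocalRing A] (S : Type v) [CommRing S]
    [IsLocalRing S] [Algebra A S] [Module.Finite A S] : HenselianLocalRing S := by
  have := henselianRing_map_of_isIntegral (maximalIdeal A) S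
  have := henselianRing_radical ((maximalIdeal A).map (algebraMap A S))
  have hle : maximalIdeal S ≤ ((maximalIdeal A).map (algebraMap A S)).radical := by
    rw [Ideal.radical_eq_sInf, le_sInf_iff]
    rintro P ⟨hP, hPp⟩
    have hPmax : P.IsMaximal := by
      refine Ideal.isMaximal_of_isIntegral_of_isMaximal_comap (R := A) P ?_
      have := (maximalIdeal.isMaximal A).eq_of_le (Ideal.comap_ne_top _ hPp.ne_top)
        (Ideal.map_le_iff_le_comap.mp hP)
      exact this ▸ maximalIdeal.isMaximal A
    exact (eq_maximalIdeal hPmax).ge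
  have := henselianRing_mono hle
  exact henselianLocalRing_of_henselianRing

end Groth.L05
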