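import Groth.Agent.L05.Hensel.Pairs
import Mathlib.RingTheory.Polynomial.UniversalFactorizationRing
import Mathlib.RingTheory.AdjoinRoot

/-!
Equivalent conditions for henselian pairs: coprime factorisations and lifting of idempotents.
-/

set_option autoImplicit false

open Polynomial

namespace Groth.L05

universe u v w

variable {A : Type u} [CommRing A] {I : Ideal A}

theorem subsingleton_of_subsingleton_quotient (hI : I ≤ Ideal.jacobson ⊥) [Subsingleton (A ⧸ I)] :
    Subsingleton A := by
  have h : IsUnit (0 : A) :=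
    isUnit_of_isUnit_mk hI (isUnit_of_subsingleton _)
  exact subsingleton_of_zero_eq_one (isUnit_zero_iff.mp h)

/-- Coprime monic factorisations lift along a henselian pair. -/
theorem exists_factor_lift (I : Ideal A) [h : HenselianRing A I] (f : A[X]) (hf : f.Monic)
    (g₀ h₀ : (A ⧸ I)[X]) (hg : g₀.Monic) (hh : h₀.Monic) (hc : IsCoprime g₀ h₀)
    (heq : f.map (Ideal.Quotient.mk I) = g₀ * h₀) :
    ∃ g k : A[X], g.Monic ∧ k.Monic ∧ f = g * k ∧ g.map (Ideal.Quotient.mk I) = g₀ ∧
      k.map (Ideal.Quotient.mk I) = h₀ ∧ IsCoprime g k := by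
  cases subsingleton_or_nontrivial (A ⧸ I)
  · have := subsingleton_of_subsingleton_quotient (A := A) h.jac
    exact ⟨1, 1, monic_one, monic_one, Subsingleton.elim _ _, Subsingleton.elim _ _,
      Subsingleton.elim _ _, isCoprime_one_left⟩
  have hn : f.natDegree = g₀.natDegree + h₀.natDegree := by
    rw [← hg.natDegree_mul hh, ← heq, hf.natDegree_map]
  let p : MonicDegreeEq A f.natDegree := .mk f hf rfl
  let σ := (UniversalCoprimeFactorizationRing.homEquiv (A ⧸ I) g₀.natDegree h₀.natDegree hn p).symm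
    ⟨(.mk g₀ hg rfl, .mk h₀ hh rfl), heq.symm, hc⟩
  obtain ⟨τ, hτ⟩ := exists_algHom_lift I σ
  let q := UniversalCoprimeFactorizationRing.homEquiv A g₀.natDegree h₀.natDegree hn p τ
  have hq : UniversalCoprimeFactorizationRing.homEquiv (A ⧸ I) g₀.natDegree h₀.natDegree hn p σ =
      ⟨(.mk g₀ hg rfl, .mk h₀ hh rfl), heq.symm, hc⟩ := Equiv.apply_symm_apply _ _
  have h1 := UniversalCoprimeFactorizationRing.homEquiv_comp_fst A g₀.natDegree h₀.natDegree hn p τ
    (Ideal.Quotient.mkₐ A I)
  have h2 := UniversalCoprimeFactorizationRing.homEquiv_comp_snd A g₀.natDegree h₀.natDegree hn p τ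
    (Ideal.Quotient.mkₐ A I)
  rw [hτ, hq] at h1 h2
  refine ⟨q.1.1.1, q.1.2.1, q.1.1.monic, q.1.2.monic, ?_, ?_, ?_, q.2.2⟩
  · have := q.2.1
    simp only [Algebra.algebraMap_self, Polynomial.map_id] at this
    exact this.symm
  · exact (congrArg Subtype.val h1).symm
  · exact (congrArg Subtype.val h2).symm

/-- A lift of an idempotent is killed by a monic polynomial congruent to a power of `X * (X - 1)`. -/
theorem exists_monic_annihilator_idem {C : Type v} [CommRing C] [Algebra A C] [Module.Finite A C]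
    (I : Ideal A) (u : C) (hu : u * u - u ∈ I.map (algebraMap A C)) :
    ∃ (f : A[X]) (n : ℕ), f.Monic ∧
      f.map (Ideal.Quotient.mk I) = X ^ n * (X - 1) ^ n ∧ aeval u f = 0 := by
  obtain ⟨p, hp, -, hcoeff, hp0⟩ :=
    LinearMap.exists_monic_and_natDegree_eq_and_coeff_mem_pow_and_aeval_eq_zero A
      (LinearMap.mulLeft A (u * u - u)) I (by
        rintro _ ⟨x, rfl⟩
        rw [Ideal.smul_top_eq_map]
        exact Ideal.mul_mem_right _ _ hu)
  cases subsingleton_or_nontrivial A
  · exact ⟨1, 0, monic_one, by simp, by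
      have : Subsingleton C := Module.subsingleton A C
      exact Subsingleton.elim _ _⟩
  have hpmap : p.map (Ideal.Quotient.mk I) = X ^ p.natDegree := by
    ext k
    rw [coeff_map, coeff_X_pow]
    rcases lt_trichotomy k p.natDegree with hk | hk | hk
    · rw [if_neg hk.ne, Ideal.Quotient.eq_zero_iff_mem]
      exact Ideal.pow_le_self (Nat.sub_ne_zero_of_lt hk) (hcoeff k)
    · rw [if_pos hk, hk, coeff_natDegree, hp.leadingCoeff, map_one]
    · rw [if_neg hk.ne', coeff_eq_zero_of_natDegree_lt hk, map_zero]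
  have hdeg : (X * (X - 1) : A[X]).natDegree = 2 := by
    rw [monic_X.natDegree_mul (by simpa using monic_X_sub_C (1 : A))]
    have := natDegree_X_sub_C (1 : A)
    rw [map_one] at this
    simp [this]
  refine ⟨p.comp (X * (X - 1)), p.natDegree,
    hp.comp (monic_X.mul (by simpa using monic_X_sub_C (1 : A))) (by omega), ?_, ?_⟩
  · rw [Polynomial.map_comp, hpmap, X_pow_comp]
    simp [mul_pow]
  · rw [aeval_comp]
    have hcomm : LinearMap.mulLeft A (u * u - u) = Algebra.lmul A C (u * u - u) := rfl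
    rw [hcomm, aeval_algHom_apply] at hp0
    have := LinearMap.congr_fun hp0 1
    simpa [mul_sub] using this

/-- Idempotents lift along a henselian pair for finite algebras. -/
theorem exists_idem_lift_of_finite (I : Ideal A) [h : HenselianRing A I] {C : Type v} [CommRing C]
    [Algebra A C] [Module.Finite A C] (u : C) (hu : u * u - u ∈ I.map (algebraMap A C)) :
    ∃ e : C, IsIdempotentElem e ∧ e - u ∈ I.map (algebraMap A C) := by
  obtain ⟨f, n, hf, hmap, hfu⟩ := exists_monic_annihilator_idem I u hu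
  rcases Nat.eq_zero_or_pos n with rfl | hn
  · refine ⟨1, IsIdempotentElem.one, ?_⟩
    cases subsingleton_or_nontrivial (A ⧸ I)
    · have := subsingleton_of_subsingleton_quotient (A := A) h.jac
      have : Subsingleton C := Module.subsingleton A C
      rw [Subsingleton.elim (1 - u) 0]
      exact zero_mem _
    · have hdeg := hf.natDegree_map (Ideal.Quotient.mk I)
      rw [hmap] at hdeg
      simp at hdeg
      rw [Polynomial.eq_one_of_monic_natDegree_zero hf hdeg.symm] at hfu
      simp only [map_one] at hfu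
      have : Subsingleton C := subsingleton_of_zero_eq_one hfu.symm
      rw [Subsingleton.elim (1 - u) 0]
      exact zero_mem _
  have hm1 : (X - 1 : (A ⧸ I)[X]).Monic := by simpa using monic_X_sub_C (1 : A ⧸ I)
  have hc : IsCoprime (X ^ n : (A ⧸ I)[X]) ((X - 1) ^ n) :=
    IsCoprime.pow ⟨1, -1, by ring⟩
  obtain ⟨g, k, hg, hk, hfgk, hgmap, hkmap, a, b, hab⟩ :=
    exists_factor_lift I f hf _ _ (monic_X_pow n) (hm1.pow n) hc hmap
  have hzero : aeval u g * aeval u k = 0 := by rw [← map_mul, ← hfgk, hfu]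
  have h1 : aeval u a * aeval u g + aeval u b * aeval u k = 1 := by
    simpa using congrArg (aeval u) hab
  refine ⟨aeval u a * aeval u g, ?_, ?_⟩
  · unfold IsIdempotentElem
    linear_combination (aeval u a * aeval u g) * h1 - (aeval u a * aeval u b) * hzero
  · set J := I.map (algebraMap A C)
    have hred : ∀ (p q : A[X]), p.map (Ideal.Quotient.mk I) = q.map (Ideal.Quotient.mk I) →
        Ideal.Quotient.mk J (aeval u p) = Ideal.Quotient.mk J (aeval u q) := by
      intro p q hpq
      rw [Ideal.Quotient.eq, ← map_sub, aeval_eq_sum_range]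
      refine Ideal.sum_mem _ fun i _ => ?_
      rw [Algebra.smul_def]
      refine Ideal.mul_mem_right _ _ (Ideal.mem_map_of_mem _ ?_)
      rw [coeff_sub, ← Ideal.Quotient.eq, ← coeff_map, ← coeff_map, hpq]
    have hgu := hred g (X ^ n) (by simpa using hgmap)
    have hku := hred k ((X - 1) ^ n) (by simpa using hkmap)
    set φ := Ideal.Quotient.mk J
    have hidem : φ u * φ u = φ u := by rw [← map_mul]; exact Ideal.Quotient.eq.mpr hu
    obtain ⟨m, rfl⟩ : ∃ m, n = m + 1 := ⟨n - 1, by omega⟩
    have hgu' : φ (aeval u g) = φ u := by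
      rw [hgu]; simpa using (show IsIdempotentElem (φ u) from hidem).pow_succ_eq m
    have hku' : φ u * φ (aeval u k) = 0 := by
      rw [hku]
      rw [map_pow, map_pow, map_sub, aeval_X, map_one, map_sub, map_one, pow_succ', ← mul_assoc,
        mul_sub, hidem, mul_one, sub_self, zero_mul]
    have h2 := congrArg (fun z => φ u * φ z) h1
    simp only [map_add, map_mul, map_one, mul_one, hgu'] at h2
    rw [← Ideal.Quotient.eq, map_mul, hgu']
    linear_combination h2 - (φ (aeval u a)) * hidem - (φ (aeval u b)) * hku'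

/-- Idempotents are determined modulo `I` in an integral algebra. -/
theorem idem_injOn (hI : I ≤ Ideal.jacobson ⊥) {C : Type v} [CommRing C] [Algebra A C]
    [Algebra.IsIntegral A C] :
    Set.InjOn (Ideal.Quotient.mk (I.map (algebraMap A C))) {e : C | IsIdempotentElem e} :=
  fun _ he _ he' h => idem_eq_of_sub_mem (map_le_jacobson_bot hI) he he' (Ideal.Quotient.eq.mp h)

/-- Idempotents lift along a henselian pair for integral algebras. -/
theorem exists_idem_lift_of_integral (I : Ideal A) [h : HenselianRing A I] {C : Type v}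
    [CommRing C] [Algebra A C] [Algebra.IsIntegral A C] (u : C)
    (hu : u * u - u ∈ I.map (algebraMap A C)) :
    ∃ e : C, IsIdempotentElem e ∧ e - u ∈ I.map (algebraMap A C) := by
  classical
  obtain ⟨T, hT⟩ : ∃ T : Finset C, ∀ D : Subalgebra A C, (T : Set C) ⊆ D → ∀ w : D, (w : C) = u →
      w * w - w ∈ I.map (algebraMap A D) := by
    suffices ∀ z ∈ I.map (algebraMap A C), ∃ T : Finset C, ∀ D : Subalgebra A C, (T : Set C) ⊆ D →
        ∃ z' ∈ I.map (algebraMap A D), (z' : C) = z by
      obtain ⟨T, hT⟩ := this _ hu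
      refine ⟨T, fun D hD w hw => ?_⟩
      obtain ⟨z', hz', hz''⟩ := hT D hD
      rwa [show w * w - w = z' from Subtype.ext (by push_cast; rw [hz'', hw])]
    intro z hz
    induction hz using Submodule.span_induction with
    | mem z hz =>
      obtain ⟨i, hi, rfl⟩ := hz
      exact ⟨∅, fun D _ => ⟨algebraMap A D i, Ideal.mem_map_of_mem _ hi, rfl⟩⟩
    | zero => exact ⟨∅, fun D _ => ⟨0, zero_mem _, rfl⟩⟩
    | add y z _ _ hy hz =>
      obtain ⟨T, hT⟩ := hy; obtain ⟨T', hT'⟩ := hz
      refine ⟨T ∪ T', fun D hD => ?_⟩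
      simp only [Finset.coe_union, Set.union_subset_iff] at hD
      obtain ⟨a, ha, ha'⟩ := hT D hD.1; obtain ⟨b, hb, hb'⟩ := hT' D hD.2
      exact ⟨a + b, add_mem ha hb, by push_cast; rw [ha', hb']⟩
    | smul c z _ hz =>
      obtain ⟨T, hT⟩ := hz
      refine ⟨insert c T, fun D hD => ?_⟩
      simp only [Finset.coe_insert, Set.insert_subset_iff] at hD
      obtain ⟨a, ha, ha'⟩ := hT D hD.2
      exact ⟨⟨c, hD.1⟩ * a, Ideal.mul_mem_left _ _ ha, by
        push_cast; rw [ha', smul_eq_mul]⟩
  let D := Algebra.adjoin A ((insert u T : Finset C) : Set C)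
  have : Module.Finite A D := ⟨(Submodule.fg_top _).mpr
    (fg_adjoin_of_finite (Finset.finite_toSet _) fun x _ => Algebra.IsIntegral.isIntegral x)⟩
  let w : D := ⟨u, Algebra.subset_adjoin (by simp)⟩
  obtain ⟨e, he, hew⟩ := exists_idem_lift_of_finite I w
    (hT D (fun x hx => Algebra.subset_adjoin (by simp [Finset.mem_coe.mp hx])) w rfl)
  refine ⟨e, he.map D.val, ?_⟩
  have := Ideal.mem_map_of_mem D.val hew
  rwa [show (I.map (algebraMap A D)).map D.val = I.map (algebraMap A C) from
    (Ideal.map_map (algebraMap A D) (D.val : D →+* C)).trans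
      (congrArg (Ideal.map · I) (RingHom.ext fun _ => rfl))] at this

theorem idem_bijOn (I : Ideal A) [h : HenselianRing A I] (C : Type v) [CommRing C] [Algebra A C]
    [Algebra.IsIntegral A C] :
    Set.BijOn (Ideal.Quotient.mk (I.map (algebraMap A C)))
      {e : C | IsIdempotentElem e} {e | IsIdempotentElem e} := by
  refine ⟨fun e he => he.map _, idem_injOn h.jac, fun z hz => ?_⟩
  obtain ⟨u, rfl⟩ := Ideal.Quotient.mk_surjective z
  obtain ⟨e, he, hev⟩ := exists_idem_lift_of_integral I u
    (Ideal.Quotient.eq.mp (by rw [map_mul]; exact hz))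
  exact ⟨e, he, Ideal.Quotient.eq.mpr hev⟩

/-- An idempotent of `A[X] ⧸ (f)` congruent to `x ^ n` gives a root in Gabber's criterion. -/
theorem exists_root_of_idem_congr {A : Type u} [CommRing A] {I : Ideal A}
    (hI : I ≤ Ideal.jacobson ⊥) (f : A[X]) (n : ℕ) (hf : f.Monic)
    (hmap : f.map (Ideal.Quotient.mk I) = X ^ n * (X - 1)) (e : AdjoinRoot f)
    (he : IsIdempotentElem e)
    (heu' : e - AdjoinRoot.root f ^ n ∈ I.map (algebraMap A (AdjoinRoot f))) :
    ∃ α : A, α - 1 ∈ I ∧ f.IsRoot α := by
  let B := AdjoinRoot f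
  have hBfin : Module.Finite A B := hf.finite_adjoinRoot
  let x : B := AdjoinRoot.root f
  set J := I.map (algebraMap A B)
  have hred : ∀ p : A[X], p.map (Ideal.Quotient.mk I) = 0 → AdjoinRoot.mk f p ∈ J := by
    intro p hp
    rw [← AdjoinRoot.aeval_eq, aeval_eq_sum_range]
    refine Ideal.sum_mem _ fun i _ => ?_
    rw [Algebra.smul_def]
    refine Ideal.mul_mem_right _ _ (Ideal.mem_map_of_mem _ ?_)
    rw [← Ideal.Quotient.eq_zero_iff_mem, ← coeff_map, hp, coeff_zero]
  have hux : x ^ n * x - x ^ n ∈ J := by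
    have : x ^ n * x - x ^ n = AdjoinRoot.mk f (X ^ n * (X - 1) - f) := by
      simp [x, mul_sub]
    rw [this]
    exact hred _ (by simp [hmap])
  let ℓ : B →ₗ[A] A := (Polynomial.leval 1).comp (AdjoinRoot.modByMonicHom hf)
  have hℓJ : ∀ z ∈ J, ℓ z ∈ I := by
    intro z hz
    have : z ∈ I • (⊤ : Submodule A B) := by rw [Ideal.smul_top_eq_map]; exact hz
    have h2 := Submodule.mem_map_of_mem (f := ℓ) this
    rw [Submodule.map_smul''] at h2
    have h3 : I • (⊤ : Submodule A B).map ℓ ≤ I := by
      rw [Submodule.smul_le]; exact fun a ha b _ => I.mul_mem_right _ ha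
    exact h3 h2
  have hℓmk : ∀ p : A[X], ℓ (AdjoinRoot.mk f p) - p.eval 1 ∈ I := by
    intro p
    have h1 : ℓ (AdjoinRoot.mk f p) = (p %ₘ f).eval 1 :=
      congrArg (fun q => eval 1 q) (AdjoinRoot.modByMonicHom_mk hf p)
    rw [h1]
    rw [← Ideal.Quotient.eq]
    have hf1 : Ideal.Quotient.mk I (f.eval 1) = 0 := by
      have := congrArg (Polynomial.eval (1 : A ⧸ I)) hmap
      rw [← map_one (Ideal.Quotient.mk I), Polynomial.eval_map_apply] at this
      simpa using this
    conv_rhs => rw [← modByMonic_add_div p f]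
    simp [hf1]
  have hℓe : ℓ e - 1 ∈ I := by
    have h1 := hℓJ _ heu'
    have h2 := hℓmk (X ^ n)
    simp only [map_pow, AdjoinRoot.mk_X, eval_pow, eval_X, one_pow] at h2
    rw [map_sub] at h1
    have := add_mem h1 h2
    rwa [sub_add_sub_cancel] at this
  have hu' : IsUnit (ℓ e) := isUnit_of_sub_one_mem hI hℓe
  have hex : e * x - e ∈ J := by
    rw [show e * x - e = (e - x ^ n) * (x - 1) + (x ^ n * x - x ^ n) by ring]
    exact add_mem (Ideal.mul_mem_right _ _ heu') hux
  let ψ : B →ₗ[A] B := LinearMap.mulLeft A e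
  have hle : LinearMap.range ψ ≤ Submodule.span A {e} := by
    have hfg : (LinearMap.range ψ).FG := by
      rw [← Submodule.map_top]; exact Module.Finite.fg_top.map _
    refine Submodule.le_of_le_smul_of_le_jacobson_bot hfg hI ?_
    rintro _ ⟨b, rfl⟩
    obtain ⟨p, rfl⟩ := AdjoinRoot.mk_surjective b
    have hz : e * AdjoinRoot.mk f p - algebraMap A B (p.eval 1) * e ∈ J := by
      obtain ⟨q, hq⟩ := X_sub_C_dvd_sub_C_eval (a := (1 : A)) (p := p)
      have hq' := congrArg (AdjoinRoot.mk f) hq
      simp only [map_sub, AdjoinRoot.mk_C, map_mul, AdjoinRoot.mk_X, map_one] at hq'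
      rw [show e * AdjoinRoot.mk f p - algebraMap A B (p.eval 1) * e =
        (e * x - e) * AdjoinRoot.mk f q by
          rw [AdjoinRoot.algebraMap_eq]; linear_combination e * hq']
      exact Ideal.mul_mem_right _ _ hex
    refine Submodule.mem_sup.mpr ⟨p.eval 1 • e, Submodule.smul_mem _ _ (Submodule.subset_span rfl),
      ψ (e * AdjoinRoot.mk f p - algebraMap A B (p.eval 1) * e), ?_, ?_⟩
    · rw [← Submodule.map_top, ← Submodule.map_smul'', Ideal.smul_top_eq_map]
      exact Submodule.mem_map_of_mem hz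
    · simp only [ψ, LinearMap.mulLeft_apply, Algebra.smul_def, mul_sub, ← mul_assoc, he.eq]
      linear_combination (-(algebraMap A B (p.eval 1))) * he.eq
  obtain ⟨α, hα⟩ := Submodule.mem_span_singleton.mp (hle ⟨x, rfl⟩)
  have hαe : algebraMap A B α * e = e * x := by rw [← Algebra.smul_def]; exact hα
  refine ⟨α, ?_, ?_⟩
  · have hmem : (α - 1) • e ∈ J := by
      rw [sub_smul, one_smul, Algebra.smul_def, hαe]; exact hex
    have h1 := hℓJ _ hmem
    rw [map_smul, smul_eq_mul] at h1
    exact (Ideal.mul_unit_mem_iff_mem I hu').mp h1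
  · rw [IsRoot.def]
    have hp : ∀ p : A[X], e * AdjoinRoot.mk f p = algebraMap A B (p.eval α) * e := by
      intro p
      induction p using Polynomial.induction_on with
      | C a => rw [eval_C, AdjoinRoot.mk_C]; exact mul_comm _ _
      | add p q hp hq => simp [mul_add, add_mul, hp, hq]
      | monomial k a hk =>
        have halg : ∀ b : A, algebraMap A B b = AdjoinRoot.of f b := fun _ => rfl
        simp only [map_mul, map_pow, eval_mul, eval_C, eval_pow, eval_X, AdjoinRoot.mk_X,
          AdjoinRoot.mk_C, halg, pow_succ] at hk hαe ⊢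
        linear_combination x * hk - (AdjoinRoot.of f a * AdjoinRoot.of f α ^ k) * hαe
    have h0 := congrArg ℓ (hp f)
    rw [AdjoinRoot.mk_self, mul_zero, map_zero, ← Algebra.smul_def, map_smul, smul_eq_mul] at h0
    exact hu'.mul_left_eq_zero.mp h0.symm

/-- A lifted idempotent in `A[X] ⧸ (f)` gives a root in Gabber's criterion. -/
theorem exists_root_of_surjOn_idem {A : Type u} [CommRing A] {I : Ideal A}
    (hI : I ≤ Ideal.jacobson ⊥) (f : A[X]) (n : ℕ) (hf : f.Monic)
    (hmap : f.map (Ideal.Quotient.mk I) = X ^ n * (X - 1))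
    (h : Set.SurjOn (Ideal.Quotient.mk (Ideal.map (algebraMap A (AdjoinRoot f)) I))
      {e : AdjoinRoot f | IsIdempotentElem e} {e | IsIdempotentElem e}) :
    ∃ α : A, α - 1 ∈ I ∧ f.IsRoot α := by
  let B := AdjoinRoot f
  have hBfin : Module.Finite A B := hf.finite_adjoinRoot
  let x : B := AdjoinRoot.root f
  set J := I.map (algebraMap A B)
  have hred : ∀ p : A[X], p.map (Ideal.Quotient.mk I) = 0 → AdjoinRoot.mk f p ∈ J := by
    intro p hp
    rw [← AdjoinRoot.aeval_eq, aeval_eq_sum_range]
    refine Ideal.sum_mem _ fun i _ => ?_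
    rw [Algebra.smul_def]
    refine Ideal.mul_mem_right _ _ (Ideal.mem_map_of_mem _ ?_)
    rw [← Ideal.Quotient.eq_zero_iff_mem, ← coeff_map, hp, coeff_zero]
  have hux : x ^ n * x - x ^ n ∈ J := by
    have : x ^ n * x - x ^ n = AdjoinRoot.mk f (X ^ n * (X - 1) - f) := by
      simp [x, mul_sub]
    rw [this]
    exact hred _ (by simp [hmap])
  have hstab : ∀ k, x ^ (n + k) - x ^ n ∈ J := by
    intro k
    induction k with
    | zero => simp
    | succ k ih =>
      rw [show x ^ (n + (k + 1)) - x ^ n = (x ^ (n + k) - x ^ n) * x + (x ^ n * x - x ^ n) by ring]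
      exact add_mem (Ideal.mul_mem_right _ _ ih) hux
  have huu : x ^ n * x ^ n - x ^ n ∈ J := by rw [← pow_add]; exact hstab n
  obtain ⟨e, he, heu⟩ := h
    (show IsIdempotentElem (Ideal.Quotient.mk J (x ^ n)) by
      unfold IsIdempotentElem; rw [← map_mul]; exact Ideal.Quotient.eq.mpr huu)
  have heu' : e - x ^ n ∈ J := Ideal.Quotient.eq.mp heu
  exact exists_root_of_idem_congr hI f n hf hmap e he heu'

/-- Lifting of idempotents in monogenic finite free algebras gives the henselian property. -/
theorem henselianRing_of_surjOn_adjoinRoot {A : Type u} [CommRing A] (I : Ideal A)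
    (hI : I ≤ Ideal.jacobson ⊥)
    (h : ∀ f : A[X], f.Monic → Set.SurjOn
      (Ideal.Quotient.mk (Ideal.map (algebraMap A (AdjoinRoot f)) I))
      {e : AdjoinRoot f | IsIdempotentElem e} {e | IsIdempotentElem e}) :
    HenselianRing A I :=
  henselianRing_of_gabberRoots
    ⟨hI, fun f n _ hf hmap => exists_root_of_surjOn_idem hI f n hf hmap (h f hf)⟩

/-- Bijectivity on idempotents of finite algebras gives the henselian property. -/
theorem henselianRing_of_idem_bijOn {A : Type u} [CommRing A] (I : Ideal A)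
    (h : ∀ (B : Type u) [CommRing B] [Algebra A B], Module.Finite A B →
      Set.BijOn (Ideal.Quotient.mk (Ideal.map (algebraMap A B) I))
        {e : B | IsIdempotentElem e} {e | IsIdempotentElem e}) :
    HenselianRing A I := by
  have hI : I ≤ Ideal.jacobson ⊥ := by
    intro x hx
    rw [Ideal.mem_jacobson_bot]
    intro y
    set z := x * y + 1
    let J : Ideal A := Ideal.span {z}
    have hbij := h (A ⧸ J) inferInstance
    have htop : I.map (algebraMap A (A ⧸ J)) = ⊤ := by
      rw [Ideal.eq_top_iff_one]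
      have h1 : algebraMap A (A ⧸ J) (-(x * y)) = 1 := by
        rw [← map_one (algebraMap A (A ⧸ J)), Ideal.Quotient.algebraMap_eq, Ideal.Quotient.eq,
          show -(x * y) - 1 = -z by ring]
        exact neg_mem (Ideal.mem_span_singleton_self z)
      rw [← h1]
      exact Ideal.mem_map_of_mem _ (I.neg_mem (I.mul_mem_right _ hx))
    have : (0 : A ⧸ J) = 1 := hbij.injOn IsIdempotentElem.zero IsIdempotentElem.one
      (Ideal.Quotient.eq.mpr (htop ▸ Submodule.mem_top))
    rwa [eq_comm, ← map_one (Ideal.Quotient.mk J), Ideal.Quotient.eq_zero_iff_mem,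
      Ideal.mem_span_singleton, ← isUnit_iff_dvd_one] at this
  exact henselianRing_of_surjOn_adjoinRoot I hI fun f hf => (h _ hf.finite_adjoinRoot).surjOn

theorem henselianRing_iff_idem_bijOn (I : Ideal A) :
    HenselianRing A I ↔ ∀ (B : Type u) [CommRing B] [Algebra A B], Module.Finite A B →
      Set.BijOn (Ideal.Quotient.mk (Ideal.map (algebraMap A B) I))
        {e : B | IsIdempotentElem e} {e | IsIdempotentElem e} :=
  ⟨fun _ B _ _ _ => idem_bijOn I B, henselianRing_of_idem_bijOn I⟩

end Groth.L05
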