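import Groth.Agent.L05.Hensel.Newton
import Mathlib.LinearAlgebra.Matrix.NonsingularInverse
import Mathlib.Algebra.Polynomial.Div

/-!
Lifting a monic factor, coprime to its cofactor, of a not necessarily monic polynomial.
-/

set_option autoImplicit false

open Polynomial

namespace Groth.L05

universe u

variable {A : Type u} [CommRing A]

/-- The universal monic polynomial of degree `d`. -/
noncomputable def univMonic (A : Type u) [CommRing A] (d : ℕ) : (MvPolynomial (Fin d) A)[X] :=
  X ^ d + ∑ i : Fin d, C (MvPolynomial.X i) * X ^ (i : ℕ)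

theorem univMonic_monic [Nontrivial A] (d : ℕ) : (univMonic A d).Monic :=
  monic_X_pow_add ((degree_sum_le _ _).trans_lt ((Finset.sup_lt_iff (WithBot.bot_lt_coe _)).mpr
    fun i _ => (degree_C_mul_X_pow_le _ _).trans_lt (WithBot.coe_lt_coe.mpr i.2)))

theorem natDegree_univMonic [Nontrivial A] (d : ℕ) : (univMonic A d).natDegree = d := by
  refine natDegree_eq_of_degree_eq_some ?_
  rw [univMonic, degree_add_eq_left_of_degree_lt, degree_X_pow]
  rw [degree_X_pow]
  exact (degree_sum_le _ _).trans_lt ((Finset.sup_lt_iff (WithBot.bot_lt_coe _)).mpr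
    fun i _ => (degree_C_mul_X_pow_le _ _).trans_lt (WithBot.coe_lt_coe.mpr i.2))

/-- The directional derivative at a point, applied to the coefficients. -/
noncomputable def coeffDer {σ : Type} (a : σ → A) (i : σ) (Q : (MvPolynomial σ A)[X]) : A[X] :=
  ∑ m ∈ Finset.range (Q.natDegree + 1),
    C (MvPolynomial.eval a (MvPolynomial.pderiv i (Q.coeff m))) * X ^ m

@[simp]
theorem coeff_coeffDer {σ : Type} (a : σ → A) (i : σ) (Q : (MvPolynomial σ A)[X]) (k : ℕ) :
    (coeffDer a i Q).coeff k = MvPolynomial.eval a (MvPolynomial.pderiv i (Q.coeff k)) := by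
  simp only [coeffDer, finsetSum_coeff, coeff_C_mul_X_pow]
  rw [Finset.sum_eq_single k]
  · simp
  · intro b _ hb; rw [if_neg (Ne.symm hb)]
  · intro hk
    rw [coeff_eq_zero_of_natDegree_lt (by simpa using hk)]
    simp

theorem coeffDer_mul {σ : Type} (a : σ → A) (i : σ) (P Q : (MvPolynomial σ A)[X]) :
    coeffDer a i (P * Q) = coeffDer a i P * Q.map (MvPolynomial.eval a) +
      P.map (MvPolynomial.eval a) * coeffDer a i Q := by
  ext k
  simp only [coeff_coeffDer, coeff_add, coeff_mul, coeff_map, map_sum, Derivation.leibniz,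
    smul_eq_mul, map_add, map_mul, ← Finset.sum_add_distrib]
  exact Finset.sum_congr rfl fun x _ => by ring

/-- A monic factor modulo `I` which is prime to its cofactor lifts along a henselian pair. -/
theorem exists_monic_factor_lift (I : Ideal A) [hI : HenselianRing A I] (f : A[X])
    (g₀ h₀ : (A ⧸ I)[X]) (hg : g₀.Monic) (hc : IsCoprime g₀ h₀)
    (hf : f.map (Ideal.Quotient.mk I) = g₀ * h₀) :
    ∃ g h : A[X], f = g * h ∧ g.Monic ∧ g.map (Ideal.Quotient.mk I) = g₀ ∧
      h.map (Ideal.Quotient.mk I) = h₀ := by
  classical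
  cases subsingleton_or_nontrivial (A ⧸ I)
  · exact ⟨1, f, (one_mul f).symm, monic_one, Subsingleton.elim _ _, Subsingleton.elim _ _⟩
  have : Nontrivial A := (Ideal.Quotient.mk I).domain_nontrivial
  set π := Ideal.Quotient.mk I
  set d := g₀.natDegree
  choose a ha using fun i : Fin d => Ideal.Quotient.mk_surjective (I := I) (g₀.coeff i)
  let G := univMonic A d
  have hG : G.Monic := univMonic_monic d
  let F : (MvPolynomial (Fin d) A)[X] := f.map MvPolynomial.C
  let H := F /ₘ G
  let R := F %ₘ G
  have hFHR : F = G * H + R := by rw [add_comm]; exact (modByMonic_add_div F G).symm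
  let ev := MvPolynomial.eval a
  have hevC : ev.comp (MvPolynomial.C : A →+* MvPolynomial (Fin d) A) = RingHom.id A :=
    RingHom.ext fun x => MvPolynomial.eval_C _
  have hGa : (G.map ev).map π = g₀ := by
    conv_rhs => rw [hg.as_sum]
    simp [G, univMonic, ev, ha, Finset.sum_range, d, π, Polynomial.map_sum]
  have hmapdeg : ∀ (b : Fin d → A), (R.map (MvPolynomial.eval b)).degree < d := by
    intro b
    refine degree_map_le.trans_lt ?_
    have := degree_modByMonic_lt F hG
    rwa [degree_eq_natDegree hG.ne_zero, natDegree_univMonic] at this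
  have hfb : ∀ b, f = G.map (MvPolynomial.eval b) * H.map (MvPolynomial.eval b) +
      R.map (MvPolynomial.eval b) := by
    intro b
    have := congrArg (Polynomial.map (MvPolynomial.eval b)) hFHR
    rw [Polynomial.map_add, Polynomial.map_mul] at this
    rw [← this, Polynomial.map_map,
      show (MvPolynomial.eval b).comp (MvPolynomial.C : A →+* MvPolynomial (Fin d) A) = RingHom.id A
        from RingHom.ext fun x => MvPolynomial.eval_C _, Polynomial.map_id]
  have hdiv : ((R.map ev).map π) = 0 ∧ (H.map ev).map π = h₀ := by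
    have h1 := congrArg (Polynomial.map π) (hfb a)
    rw [hf, Polynomial.map_add, Polynomial.map_mul, hGa] at h1
    have h2 : g₀ * (h₀ - (H.map ev).map π) = (R.map ev).map π := by
      rw [mul_sub, h1, add_sub_cancel_left]
    have h3 : h₀ - (H.map ev).map π = 0 := by
      by_contra hne
      have hd := congrArg Polynomial.degree h2
      rw [hg.degree_mul_comm, hg.degree_mul, degree_eq_natDegree hne,
        degree_eq_natDegree hg.ne_zero] at hd
      have h4 : ((R.map ev).map π).degree < d := degree_map_le.trans_lt (hmapdeg a)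
      rw [← hd, ← WithBot.coe_natCast, ← WithBot.coe_natCast] at h4
      have h5 : (h₀ - (H.map ev).map π).natDegree + d < d := by exact_mod_cast h4
      omega
    exact ⟨by rw [← h2, h3, mul_zero], (sub_eq_zero.mp h3).symm⟩
  obtain ⟨hR0, hH0⟩ := hdiv
  let g : Fin d → MvPolynomial (Fin d) A := fun j => R.coeff j
  have h0 : ∀ j, MvPolynomial.eval a (g j) ∈ I := fun j => by
    rw [← Ideal.Quotient.eq_zero_iff_mem]
    have := congrArg (fun p => p.coeff (j : ℕ)) hR0
    simpa [ev] using this
  have hder : ∀ i : Fin d, coeffDer a i R = - (X ^ (i : ℕ) * H.map ev + G.map ev * coeffDer a i H) := by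
    intro i
    have h1 : coeffDer a i F = 0 := by ext k; simp [F]
    have h2 : coeffDer a i G = X ^ (i : ℕ) := by
      ext k
      simp only [coeff_coeffDer, G, univMonic, coeff_add, coeff_X_pow, finsetSum_coeff,
        coeff_C_mul_X_pow, map_add, map_sum]
      rw [Finset.sum_eq_single i]
      · split_ifs <;> simp_all [MvPolynomial.pderiv_X]
      · intro b _ hb
        split_ifs <;> simp [MvPolynomial.pderiv_X, Pi.single_apply, Ne.symm hb, hb]
      · intro h; exact absurd (Finset.mem_univ i) h
    have h3 : coeffDer a i (G * H + R) = coeffDer a i (G * H) + coeffDer a i R := by ext k; simp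
    rw [← hFHR, h1, coeffDer_mul, h2] at h3
    linear_combination -h3
  obtain ⟨u, v, huv⟩ := hc
  let J : Matrix (Fin d) (Fin d) (A ⧸ I) :=
    Matrix.of fun i j => π (MvPolynomial.eval a (MvPolynomial.pderiv i (g j)))
  have hsurj : Function.Surjective J.vecMul := by
    intro w
    let W : (A ⧸ I)[X] := ∑ j : Fin d, C (w j) * X ^ (j : ℕ)
    let c := (-(v * W)) %ₘ g₀
    refine ⟨fun i => c.coeff i, ?_⟩
    have hcdeg : c.degree < d := by
      have := degree_modByMonic_lt (-(v * W)) hg
      rwa [degree_eq_natDegree hg.ne_zero] at this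
    have hWdeg : W.degree < d :=
      (degree_sum_le _ _).trans_lt ((Finset.sup_lt_iff (WithBot.bot_lt_coe _)).mpr
        fun j _ => (degree_C_mul_X_pow_le _ _).trans_lt (WithBot.coe_lt_coe.mpr j.2))
    let T : (A ⧸ I)[X] := ∑ i : Fin d, C (c.coeff i) * (coeffDer a i R).map π
    have hTdeg : T.degree < d := by
      refine (degree_sum_le _ _).trans_lt ((Finset.sup_lt_iff (WithBot.bot_lt_coe _)).mpr fun i _ => ?_)
      rw [degree_lt_iff_coeff_zero]
      intro m hm
      rw [coeff_C_mul, coeff_map, coeff_coeffDer]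
      have hR : R.coeff m = 0 := by
        refine coeff_eq_zero_of_degree_lt (lt_of_lt_of_le ?_ (WithBot.coe_le_coe.mpr hm))
        have := degree_modByMonic_lt F hG
        rwa [degree_eq_natDegree hG.ne_zero, natDegree_univMonic] at this
      simp [hR]
    have hc_sum : c = ∑ i : Fin d, C (c.coeff i) * X ^ (i : ℕ) := by
      rcases eq_or_ne c 0 with hc0 | hc0
      · simp [hc0]
      conv_lhs => rw [c.as_sum_range_C_mul_X_pow' ((natDegree_lt_iff_degree_lt hc0).mpr hcdeg)]
      rw [Finset.sum_range]
    have hcdiv : -(v * W) = c + g₀ * ((-(v * W)) /ₘ g₀) := (modByMonic_add_div _ _).symm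
    have hdvd : g₀ ∣ T - W := by
      have hT : T = -(c * h₀) - g₀ * ∑ i : Fin d, C (c.coeff i) * (coeffDer a i H).map π := by
        conv_rhs => rw [hc_sum]
        simp only [T, hder, Polynomial.map_neg, Polynomial.map_add, Polynomial.map_mul, hGa, hH0,
          Polynomial.map_pow, map_X, Finset.sum_mul, Finset.mul_sum, ← Finset.sum_neg_distrib,
          ← Finset.sum_sub_distrib]
        refine Finset.sum_congr rfl fun i _ => ?_
        have : (C ((∑ j : Fin d, C (c.coeff j) * X ^ (j : ℕ)).coeff i) : (A ⧸ I)[X]) =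
            C (c.coeff i) := by rw [← hc_sum]
        rw [this]
        ring
      have key : (h₀ * v - 1) * W = -(u * W) * g₀ := by linear_combination W * huv
      rw [hT, show -(c * h₀) - g₀ * ∑ i : Fin d, C (c.coeff i) * (coeffDer a i H).map π - W =
        g₀ * (((-(v * W)) /ₘ g₀) * h₀ - u * W - ∑ i : Fin d, C (c.coeff i) * (coeffDer a i H).map π) by
          linear_combination h₀ * hcdiv + key]
      exact dvd_mul_right _ _
    have hTW : T = W := by
      by_contra hne
      obtain ⟨q, hq⟩ := hdvd
      have hlt : (T - W).degree < d := (degree_sub_le _ _).trans_lt (max_lt hTdeg hWdeg)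
      have hq0 : q ≠ 0 := fun h => hne (sub_eq_zero.mp (by rw [hq, h, mul_zero]))
      rw [hq, mul_comm, hg.degree_mul, degree_eq_natDegree hq0, degree_eq_natDegree hg.ne_zero] at hlt
      have h5 : q.natDegree + d < d := by exact_mod_cast hlt
      omega
    funext j
    have := congrArg (fun p => p.coeff (j : ℕ)) hTW
    simp only [T, W, finsetSum_coeff, coeff_C_mul, coeff_map, coeff_coeffDer, coeff_X_pow] at this
    show ∑ i : Fin d, c.coeff (i : ℕ) * J i j = w j
    refine (Finset.sum_congr rfl fun i _ => rfl).trans (this.trans ?_)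
    rw [Finset.sum_eq_single j]
    · simp
    · intro b _ hb
      rw [if_neg (fun h => hb (Fin.ext h.symm)), mul_zero]
    · intro h; exact absurd (Finset.mem_univ j) h
  have hdet : IsUnit (π (MvPolynomial.eval a (Matrix.of fun i j => MvPolynomial.pderiv i (g j)).det)) := by
    rw [RingHom.map_det, RingHom.map_det]
    exact (Matrix.isUnit_iff_isUnit_det _).mp (Matrix.vecMul_surjective_iff_isUnit.mp hsurj)
  obtain ⟨b, hb, hroot⟩ := exists_zero_of_jacobian I g a h0 hdet
  refine ⟨G.map (MvPolynomial.eval b), H.map (MvPolynomial.eval b), ?_, hG.map _, ?_, ?_⟩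
  · have hR : R.map (MvPolynomial.eval b) = 0 := by
      ext k
      rw [coeff_map, coeff_zero]
      rcases lt_or_ge k d with hk | hk
      · exact hroot ⟨k, hk⟩
      · rw [← coeff_map]
        exact coeff_eq_zero_of_degree_lt ((hmapdeg b).trans_le (WithBot.coe_le_coe.mpr hk))
    conv_lhs => rw [hfb b, hR, add_zero]
  · rw [← hGa, Polynomial.map_map, Polynomial.map_map]
    congr 1
    exact MvPolynomial.ringHom_ext (fun x => by simp [ev]) fun i => by
      simp [ev, π, Ideal.Quotient.eq.mpr (hb i)]
  · rw [← hH0, Polynomial.map_map, Polynomial.map_map]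
    congr 1
    exact MvPolynomial.ringHom_ext (fun x => by simp [ev]) fun i => by
      simp [ev, π, Ideal.Quotient.eq.mpr (hb i)]

end Groth.L05
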