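import Mathlib.RingTheory.Henselian
import Mathlib.RingTheory.Nakayama
import Mathlib.LinearAlgebra.Charpoly.Basic
import Mathlib.LinearAlgebra.Charpoly.ToMatrix
import Mathlib.RingTheory.Ideal.GoingUp
import Mathlib.RingTheory.Finiteness.Cardinality

/-!
Gabber's criterion and the lifting of idempotents cutting out a rank one piece of a finite algebra.
-/

set_option autoImplicit false

open Polynomial

namespace Groth.L05

/-- `A` satisfies Gabber's root property at `I`. -/
def GabberRoots {A : Type*} [CommRing A] (I : Ideal A) : Prop :=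
  I ≤ Ideal.jacobson ⊥ ∧ ∀ (f : A[X]) (n : ℕ), 0 < n → f.Monic →
    f.map (Ideal.Quotient.mk I) = X ^ n * (X - 1) → ∃ α : A, α - 1 ∈ I ∧ f.IsRoot α

theorem gabberRoots_of_henselianRing {A : Type*} [CommRing A] (I : Ideal A) [h : HenselianRing A I] :
    GabberRoots I := by
  refine ⟨h.jac, fun f n hn hf hmap => ?_⟩
  have h1 : f.eval 1 ∈ I := by
    rw [← Ideal.Quotient.eq_zero_iff_mem]
    have := congrArg (Polynomial.eval (1 : A ⧸ I)) hmap
    rw [show (1 : A ⧸ I) = Ideal.Quotient.mk I 1 from (map_one _).symm,
      Polynomial.eval_map_apply] at this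
    simpa using this
  have h2 : IsUnit (Ideal.Quotient.mk I (f.derivative.eval 1)) := by
    have := congrArg (fun p => Polynomial.eval (1 : A ⧸ I) (Polynomial.derivative p)) hmap
    simp only [Polynomial.derivative_map] at this
    rw [show (1 : A ⧸ I) = Ideal.Quotient.mk I 1 from (map_one _).symm,
      Polynomial.eval_map_apply] at this
    rw [this]
    simp [Polynomial.derivative_mul, Polynomial.derivative_pow]
  obtain ⟨a, ha, ha'⟩ := h.is_henselian f hf 1 h1 h2
  exact ⟨a, ha', ha⟩

/-- Elements congruent to a unit modulo an ideal in the Jacobson radical are units. -/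
theorem isUnit_of_isUnit_mk {A : Type*} [CommRing A] {I : Ideal A} (hI : I ≤ Ideal.jacobson ⊥)
    {a : A} (ha : IsUnit (Ideal.Quotient.mk I a)) : IsUnit a :=
  (isLocalHom_of_le_jacobson_bot I hI).map_nonunit a ha

theorem isUnit_of_sub_one_mem {A : Type*} [CommRing A] {I : Ideal A} (hI : I ≤ Ideal.jacobson ⊥)
    {a : A} (ha : a - 1 ∈ I) : IsUnit a :=
  isUnit_of_isUnit_mk hI (by rw [Ideal.Quotient.eq.mpr ha]; simp)

/-- Extension of an ideal in the Jacobson radical to an integral algebra stays in the radical. -/
theorem map_le_jacobson_bot {A C : Type*} [CommRing A] [CommRing C] [Algebra A C]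
    [Algebra.IsIntegral A C] {I : Ideal A} (hI : I ≤ Ideal.jacobson ⊥) :
    I.map (algebraMap A C) ≤ Ideal.jacobson ⊥ := by
  rw [Ideal.jacobson, le_sInf_iff]
  rintro M ⟨-, hM⟩
  have : M.IsMaximal := hM
  rw [Ideal.map_le_iff_le_comap]
  have := Ideal.isMaximal_comap_of_isIntegral_of_isMaximal (R := A) M
  exact hI.trans (sInf_le ⟨bot_le, this⟩)

theorem idem_eq_zero_of_mem_jacobson {A : Type*} [CommRing A] {e : A} (he : IsIdempotentElem e)
    (hj : e ∈ Ideal.jacobson (⊥ : Ideal A)) : e = 0 := by
  have hu : IsUnit (1 - e) := by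
    have := (Ideal.mem_jacobson_bot.mp hj) (-1)
    simpa [sub_eq_neg_add, mul_comm, add_comm] using this
  refine hu.mul_left_cancel ?_
  rw [mul_zero, sub_mul, one_mul, he.eq, sub_self]

/-- Idempotents congruent modulo an ideal in the Jacobson radical are equal. -/
theorem idem_eq_of_sub_mem {A : Type*} [CommRing A] {J : Ideal A} (hJ : J ≤ Ideal.jacobson ⊥)
    {e e' : A} (he : IsIdempotentElem e) (he' : IsIdempotentElem e') (h : e - e' ∈ J) : e = e' := by
  have he1 : e * (1 - e') = 0 := by
    refine idem_eq_zero_of_mem_jacobson (he.mul he'.one_sub) (hJ ?_)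
    have hh : e * (1 - e') = e * (e - e') := by rw [mul_sub, mul_sub, he.eq, mul_one]
    rw [hh]; exact J.mul_mem_left _ h
  have he2 : e' * (1 - e) = 0 := by
    refine idem_eq_zero_of_mem_jacobson (he'.mul he.one_sub) (hJ ?_)
    have hh : e' * (1 - e) = - (e' * (e - e')) := by
      rw [mul_sub, mul_sub, he'.eq, mul_one, neg_sub]
    rw [hh]; exact J.neg_mem (J.mul_mem_left _ h)
  linear_combination he1 - he2

/-- A finite algebra with a cyclic idempotent piece modulo `I` kills the element by a polynomial
congruent to `X ^ n * (X - 1)`. -/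
theorem exists_monic_annihilator_rankOne {A : Type*} [CommRing A] {I : Ideal A}
    (hI : I ≤ Ideal.jacobson ⊥) {C : Type*} [CommRing C] [Algebra A C] [Module.Finite A C] (u : C)
    (hu : u * u - u ∈ I.map (algebraMap A C))
    (hcyc : ∀ x : C, ∃ a : A, x * u - algebraMap A C a * u ∈ I.map (algebraMap A C)) :
    ∃ (f : A[X]) (n : ℕ), 0 < n ∧ f.Monic ∧
      f.map (Ideal.Quotient.mk I) = X ^ n * (X - 1) ∧ aeval u f = 0 := by
  classical
  obtain ⟨r, w, hw⟩ := Module.Finite.exists_fin (R := A) (M := C)
  let J := Option (Fin r)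
  let x : J → C := fun j => Option.elim j u (fun i => (1 - u) * w i)
  let δ : J → A := fun j => Option.elim j 1 (fun _ => 0)
  let π : (J → A) →ₗ[A] C := Fintype.linearCombination A x
  have hπx : ∀ j, π (Pi.single j 1) = x j := fun j => by
    simp [π, Fintype.linearCombination_apply_single]
  have hsurj : Function.Surjective π := by
    rw [← LinearMap.range_eq_top]
    apply top_unique
    refine Submodule.le_of_le_smul_of_le_jacobson_bot (Module.Finite.fg_top) hI ?_
    intro y _
    obtain ⟨a, ha⟩ := hcyc y
    have hy : (1 - u) * y ∈ LinearMap.range π := by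
      have hy' : y ∈ Submodule.span A (Set.range w) := hw ▸ Submodule.mem_top
      obtain ⟨c, hc⟩ := (Submodule.mem_span_range_iff_exists_fun A).mp hy'
      rw [← hc, Finset.mul_sum]
      refine Submodule.sum_mem _ fun i _ => ?_
      rw [mul_smul_comm]
      exact Submodule.smul_mem _ _ ⟨Pi.single (some i) 1, hπx (some i)⟩
    have hau : algebraMap A C a * u ∈ LinearMap.range π := by
      rw [← Algebra.smul_def]
      exact Submodule.smul_mem _ _ ⟨Pi.single none 1, hπx none⟩
    have : y = (algebraMap A C a * u + (1 - u) * y) + (y * u - algebraMap A C a * u) := by ring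
    rw [this]
    refine Submodule.mem_sup.mpr ⟨_, add_mem hau hy, _, ?_, rfl⟩
    rw [Ideal.smul_top_eq_map]
    exact ha
  have himage : ∀ y : C, y ∈ I.map (algebraMap A C) →
      ∃ v ∈ I • (⊤ : Submodule A (J → A)), π v = y := by
    intro y hy
    have : y ∈ (I • (⊤ : Submodule A (J → A))).map π := by
      rw [Submodule.map_smul'', Submodule.map_top, LinearMap.range_eq_top.mpr hsurj,
        Ideal.smul_top_eq_map]
      exact hy
    exact this
  have hdiag : ∀ j, ∃ v ∈ I • (⊤ : Submodule A (J → A)), π v = u * x j - δ j • x j := by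
    intro j
    refine himage _ ?_
    cases j with
    | none => simpa [x, δ] using hu
    | some i =>
      have : u * ((1 - u) * w i) = - ((u * u - u) * w i) := by ring
      simp only [x, δ, Option.elim, zero_smul, sub_zero, this]
      exact neg_mem (Ideal.mul_mem_right _ _ hu)
  choose v hvI hv using hdiag
  let M : Matrix J J A := Matrix.diagonal δ + Matrix.of (fun i j => v j i)
  have hMmap : M.map (Ideal.Quotient.mk I) = Matrix.diagonal (fun j => Ideal.Quotient.mk I (δ j)) := by
    ext i j
    have hz : Ideal.Quotient.mk I (v j i) = 0 := by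
      rw [Ideal.Quotient.eq_zero_iff_mem]
      have hle : I • (⊤ : Submodule A (J → A)) ≤ Submodule.comap (LinearMap.proj i) I := by
        rw [Submodule.smul_le]
        intro a ha z _
        simpa using Ideal.mul_mem_right _ _ ha
      exact hle (hvI j)
    simp [M, Matrix.diagonal_apply, hz, apply_ite (Ideal.Quotient.mk I)]
  have hπM : ∀ z, π (M.toLin' z) = u * π z := by
    have : π.comp M.toLin' = (LinearMap.mulLeft A u).comp π := by
      refine (Pi.basisFun A J).ext fun j => ?_
      have : M.toLin' (Pi.single j 1) = δ j • (Pi.single j 1 : J → A) + v j := by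
        rw [Matrix.toLin'_apply, Matrix.mulVec_single_one]
        ext i
        simp [M, Matrix.diagonal_apply, Pi.single_apply]
        split_ifs with h <;> simp [h]
      simp only [Pi.basisFun_apply, LinearMap.comp_apply, this, map_add, map_smul, hπx, hv,
        LinearMap.mulLeft_apply]
      ring
    exact fun z => LinearMap.congr_fun this z
  have hchar : (M.charpoly).map (Ideal.Quotient.mk I) = (X - 1) * X ^ r := by
    rw [← Matrix.charpoly_map, hMmap, Matrix.charpoly_diagonal, Fintype.prod_option]
    simp [δ]
  have haeval : ∀ (p : A[X]) z, π (aeval M.toLin' p z) = aeval u p * π z := by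
    intro p
    induction p using Polynomial.induction_on' with
    | add p q hp hq => intro z; simp [hp, hq, add_mul]
    | monomial k a =>
      intro z
      rw [aeval_monomial, aeval_monomial, Module.algebraMap_end_eq_smul_id, ← Algebra.smul_def]
      suffices ∀ z, π ((M.toLin' ^ k) z) = u ^ k * π z by
        simp only [LinearMap.smul_apply, LinearMap.id_apply, Module.End.mul_apply, map_smul, this z,
          smul_mul_assoc]
      intro z
      induction k with
      | zero => simp
      | succ k ih =>
        rw [pow_succ', Module.End.mul_apply, hπM, ih, ← mul_assoc, ← pow_succ']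
  refine ⟨X * M.charpoly, r + 1, Nat.succ_pos r, monic_X.mul M.charpoly_monic, ?_, ?_⟩
  · rw [Polynomial.map_mul, map_X, hchar]; ring
  · obtain ⟨z, hz⟩ := hsurj 1
    have h0 := haeval M.charpoly z
    have hCH : aeval M.toLin' M.charpoly = 0 := by
      have := Polynomial.aeval_algHom_apply (Matrix.toLinAlgEquiv' (R := A) (n := J)) M M.charpoly
      rw [Matrix.aeval_self_charpoly, map_zero] at this
      exact this
    rw [hCH, hz, mul_one] at h0
    simp [← h0]

/-- Gabber's criterion lifts an idempotent cutting out a cyclic piece. -/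
theorem exists_idem_rankOne {A : Type*} [CommRing A] {I : Ideal A} (h : GabberRoots I)
    {C : Type*} [CommRing C] [Algebra A C] [Module.Finite A C] (u : C)
    (hu : u * u - u ∈ I.map (algebraMap A C))
    (hcyc : ∀ x : C, ∃ a : A, x * u - algebraMap A C a * u ∈ I.map (algebraMap A C)) :
    ∃ e : C, IsIdempotentElem e ∧ e - u ∈ I.map (algebraMap A C) := by
  obtain ⟨f, n, hn, hf, hmap, hfu⟩ := exists_monic_annihilator_rankOne h.1 u hu hcyc
  obtain ⟨α, hα, hroot⟩ := h.2 f n hn hf hmap
  obtain ⟨q, hq⟩ := dvd_iff_isRoot.mpr hroot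
  have hαm : Ideal.Quotient.mk I α = 1 := by rw [← map_one (Ideal.Quotient.mk I), Ideal.Quotient.eq]; exact hα
  have hqmap : q.map (Ideal.Quotient.mk I) = X ^ n := by
    have := hmap
    rw [hq, Polynomial.map_mul, Polynomial.map_sub, map_X, map_C, hαm, map_one, mul_comm] at this
    have hm : (X - 1 : (A ⧸ I)[X]).Monic := by simpa using monic_X_sub_C (1 : A ⧸ I)
    exact hm.isRegular.right this
  have hqα : q.eval α - 1 ∈ I := by
    rw [← Ideal.Quotient.eq, ← Polynomial.eval_map_apply, hqmap, hαm]
    simp
  obtain ⟨b, hb⟩ := (isUnit_of_sub_one_mem h.1 hqα).exists_left_inv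
  have hb1 : Ideal.Quotient.mk I b = 1 := by
    have := congrArg (Ideal.Quotient.mk I) hb
    rwa [map_mul, Ideal.Quotient.eq.mpr hqα, map_one, mul_one] at this
  obtain ⟨s, hs⟩ := X_sub_C_dvd_sub_C_eval (a := α) (p := q)
  have hkey : (aeval u q - algebraMap A C (q.eval α)) * aeval u q = 0 := by
    have h1 := congrArg (aeval u) hs
    simp only [map_sub, aeval_C, map_mul, aeval_X] at h1
    have h2 : (u - algebraMap A C α) * aeval u q = 0 := by
      have := congrArg (aeval u) hq
      rw [hfu] at this
      simpa using this.symm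
    rw [h1, mul_comm _ (aeval u s), mul_assoc, h2, mul_zero]
  refine ⟨algebraMap A C b * aeval u q, ?_, ?_⟩
  · have hb' : algebraMap A C b * algebraMap A C (q.eval α) = 1 := by
      rw [← map_mul, hb, map_one]
    unfold IsIdempotentElem
    linear_combination (algebraMap A C b) ^ 2 * hkey + algebraMap A C b * aeval u q * hb'
  · set J := I.map (algebraMap A C)
    let φ := Ideal.Quotient.mk J
    have hker : ∀ a : A, a ∈ I → φ (algebraMap A C a) = 0 := fun a ha =>
      Ideal.Quotient.eq_zero_iff_mem.mpr (Ideal.mem_map_of_mem _ ha)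
    rw [← Ideal.Quotient.eq]
    show φ _ = φ u
    have h1 : φ (algebraMap A C b) = 1 := by
      have : b - 1 ∈ I := by rw [← Ideal.Quotient.eq, hb1, map_one]
      have := hker _ this
      rwa [map_sub, map_sub, map_one, map_one, sub_eq_zero] at this
    have h2 : φ (aeval u q) = φ u ^ n := by
      have hd : ∀ i, q.coeff i - (X ^ n : A[X]).coeff i ∈ I := fun i => by
        rw [← Ideal.Quotient.eq, ← Polynomial.coeff_map, ← Polynomial.coeff_map, hqmap]
        simp
      have : φ (aeval u (q - X ^ n)) = 0 := by
        rw [aeval_eq_sum_range, map_sum]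
        refine Finset.sum_eq_zero fun i _ => ?_
        rw [Algebra.smul_def, map_mul, hker _ (by simpa using hd i), zero_mul]
      simpa [sub_eq_zero] using this
    rw [map_mul, h1, h2, one_mul]
    have hidem : IsIdempotentElem (φ u) := by
      unfold IsIdempotentElem
      rw [← map_mul]
      exact Ideal.Quotient.eq.mpr hu
    obtain ⟨m, rfl⟩ : ∃ m, n = m + 1 := ⟨n - 1, by omega⟩
    exact hidem.pow_succ_eq m

end Groth.L05
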