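import Groth.Agent.L05.Hensel.Perm
import Mathlib.LinearAlgebra.Matrix.ToLin
import Mathlib.RingTheory.Finiteness.Projective
import Mathlib.LinearAlgebra.TensorProduct.RightExactness
import Mathlib.LinearAlgebra.TensorProduct.Pi

/-!
Finite projective modules over henselian pairs.
-/

set_option autoImplicit false

open Polynomial TensorProduct

namespace Groth.L05

universe u v

variable {A : Type u} [CommRing A]

/-- An element whose square differs from it by something killed by a monic polynomial congruent to a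
power of `X` lifts to an idempotent in the commutative algebra it generates. -/
theorem exists_aeval_idem (I : Ideal A) [HenselianRing A I] {M : Type v} [Ring M] [Algebra A M]
    [Module.Finite A M] (E : M)
    (hE : ∀ z : M, (E * E - E) * z ∈ I • (⊤ : Submodule A M)) :
    ∃ (q : A[X]), IsIdempotentElem (aeval E q) ∧
      ∀ {N : Type v} [Ring N] (φ : M →+* N), (∀ a ∈ I, φ (algebraMap A M a) = 0) →
        IsIdempotentElem (φ E) → φ (aeval E q) = φ E := by
  cases subsingleton_or_nontrivial A
  · have : Subsingleton M := Module.subsingleton A M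
    exact ⟨0, Subsingleton.elim _ _, fun φ _ _ => congrArg φ (Subsingleton.elim _ _)⟩
  obtain ⟨p, hp, -, hcoeff, hp0⟩ :=
    LinearMap.exists_monic_and_natDegree_eq_and_coeff_mem_pow_and_aeval_eq_zero A
      (LinearMap.mulLeft A (E * E - E)) I (by rintro _ ⟨z, rfl⟩; exact hE z)
  let s : A[X] := X * X - X
  have hs : s.Monic := by
    refine Monic.sub_of_left (monic_X.mul monic_X) (degree_lt_degree ?_)
    rw [monic_X.natDegree_mul monic_X, natDegree_X]; norm_num
  have hsdeg : s.natDegree ≠ 0 := by
    rw [show s = X * (X - C 1) by simp [s, mul_sub], monic_X.natDegree_mul (monic_X_sub_C 1),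
      natDegree_X, natDegree_X_sub_C]
    norm_num
  let f := p.comp s
  have hf : f.Monic := hp.comp hs hsdeg
  have hfE : aeval E f = 0 := by
    rw [aeval_comp, show aeval E s = E * E - E by simp [s]]
    rw [show LinearMap.mulLeft A (E * E - E) = Algebra.lmul A M (E * E - E) from rfl,
      aeval_algHom_apply] at hp0
    simpa using LinearMap.congr_fun hp0 1
  let B := AdjoinRoot f
  have : Module.Finite A B := hf.finite_adjoinRoot
  let x : B := AdjoinRoot.root f
  let ψ : B →ₐ[A] M := (Ideal.Quotient.liftₐ (Ideal.span {f}) (aeval E) (by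
    intro c hc
    obtain ⟨d, rfl⟩ := Ideal.mem_span_singleton'.mp hc
    rw [map_mul, hfE, mul_zero]) : (A[X] ⧸ Ideal.span {f}) →ₐ[A] M)
  set J := I.map (algebraMap A B)
  set π := Ideal.Quotient.mk J
  have hnil : π (x * x - x) ^ p.natDegree = 0 := by
    have h1 : aeval x f = 0 := by
      rw [show x = AdjoinRoot.root f from rfl, AdjoinRoot.aeval_eq, AdjoinRoot.mk_self]
    rw [aeval_comp, show aeval x s = x * x - x by simp [s]] at h1
    have h2 := congrArg π h1
    rw [map_zero, aeval_eq_sum_range, map_sum, Finset.sum_range_succ, Finset.sum_eq_zero, zero_add,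
      hp.coeff_natDegree, one_smul, map_pow] at h2
    · exact h2
    · intro i hi
      rw [Algebra.smul_def, map_mul, Ideal.Quotient.eq_zero_iff_mem.mpr, zero_mul]
      exact Ideal.mem_map_of_mem _ (Ideal.pow_le_self
        (Nat.sub_ne_zero_of_lt (Finset.mem_range.mp hi)) (hcoeff i))
  let nilQ : B ⧸ J →+* (B ⧸ J) ⧸ nilradical (B ⧸ J) := Ideal.Quotient.mk _
  have hidem : IsIdempotentElem (nilQ (π x)) := by
    unfold IsIdempotentElem
    rw [← map_mul, ← map_mul, Ideal.Quotient.eq, ← map_sub]
    exact ⟨p.natDegree, hnil⟩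
  obtain ⟨ē, hē, hēx⟩ := exists_isIdempotentElem_eq_of_ker_isNilpotent nilQ
    (fun z hz => by rw [Ideal.mk_ker] at hz; exact hz) _ ⟨_, rfl⟩ hidem
  obtain ⟨e, he, heē⟩ := (idem_bijOn I B).surjOn hē
  obtain ⟨q, rfl⟩ := AdjoinRoot.mk_surjective e
  refine ⟨q, ?_, fun φ hφI hφ => ?_⟩
  · have := IsIdempotentElem.map he ψ
    exact this
  · obtain ⟨d, hd⟩ : IsNilpotent (π (AdjoinRoot.mk f q) - π x) := by
      change π (AdjoinRoot.mk f q) = ē at heē
      rw [heē]
      exact Ideal.Quotient.eq.mp hēx
    have hJ : ∀ z ∈ J, φ (ψ z) = 0 := by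
      intro z hz
      induction hz using Submodule.span_induction with
      | mem z hz =>
        obtain ⟨a, ha, rfl⟩ := hz
        rw [ψ.commutes]
        exact hφI a ha
      | zero => simp
      | add a b _ _ ha hb => simp [ha, hb]
      | smul a b _ hb => simp [hb]
    have hd' : (φ (aeval E q) - φ E) ^ d = 0 := by
      rw [← map_sub π, ← map_pow] at hd
      have := hJ _ (Ideal.Quotient.eq_zero_iff_mem.mp hd)
      rw [map_pow, map_pow, map_sub ψ, map_sub φ] at this
      have hψx : ψ x = E := by
        show aeval E X = E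
        exact aeval_X E
      rw [hψx] at this
      exact this
    have hcomm : Commute (φ (aeval E q)) (φ E) := by
      refine Commute.map ?_ φ
      have := (Commute.all q X).map (aeval E)
      rwa [aeval_X] at this
    exact eq_of_isNilpotent_sub_of_isIdempotentElem_of_commute
      ((IsIdempotentElem.map he ψ).map φ) hφ ⟨d, hd'⟩ hcomm

/-- Finite projective modules over the quotient lift along a henselian pair. -/
theorem exists_projective_lift (I : Ideal A) [HenselianRing A I] (Q : Type u) [AddCommGroup Q]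
    [Module (A ⧸ I) Q] [Module.Finite (A ⧸ I) Q] [Module.Projective (A ⧸ I) Q] :
    ∃ (P : Type u) (_ : AddCommGroup P) (_ : Module A P), Module.Finite A P ∧ Module.Projective A P ∧
      Nonempty (TensorProduct A (A ⧸ I) P ≃ₗ[A ⧸ I] Q) := by
  obtain ⟨n, π, s, hπ, -, hπs⟩ :=
    Module.Finite.exists_comp_eq_id_of_projective (A ⧸ I) Q
  let Ebar : Matrix (Fin n) (Fin n) (A ⧸ I) := LinearMap.toMatrix' (s ∘ₗ π)
  have hEbar : IsIdempotentElem Ebar := by
    unfold IsIdempotentElem
    rw [← LinearMap.toMatrix'_comp]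
    congr 1
    refine LinearMap.ext fun v => ?_
    show s (π (s (π v))) = s (π v)
    rw [show π (s (π v)) = π v from LinearMap.congr_fun hπs (π v)]
  choose E hE using fun i j => Ideal.Quotient.mk_surjective (Ebar i j)
  let E' : Matrix (Fin n) (Fin n) A := Matrix.of E
  let φ : Matrix (Fin n) (Fin n) A →+* Matrix (Fin n) (Fin n) (A ⧸ I) :=
    (Ideal.Quotient.mk I).mapMatrix
  have hφE : φ E' = Ebar := by ext i j; exact hE i j
  have hrange : ∀ z, (E' * E' - E') * z ∈ I • (⊤ : Submodule A (Matrix (Fin n) (Fin n) A)) := by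
    intro z
    have h0 : φ ((E' * E' - E') * z) = 0 := by
      rw [map_mul, map_sub, map_mul, hφE, hEbar.eq, sub_self, zero_mul]
    set w := (E' * E' - E') * z
    rw [Matrix.matrix_eq_sum_single w]
    refine Submodule.sum_mem _ fun i _ => Submodule.sum_mem _ fun j _ => ?_
    have hw : w i j ∈ I := Ideal.Quotient.eq_zero_iff_mem.mp (congrFun (congrFun h0 i) j)
    rw [← mul_one (w i j), ← smul_eq_mul, ← Matrix.smul_single]
    exact Submodule.smul_mem_smul hw Submodule.mem_top
  obtain ⟨q, hq, hqφ⟩ := exists_aeval_idem I E' hrange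
  let e := aeval E' q
  have hφe : φ e = Ebar := by
    refine (hqφ φ (fun a ha => ?_) (hφE ▸ hEbar)).trans hφE
    ext i j
    simp [φ, Matrix.algebraMap_eq_diagonal, Matrix.diagonal_apply,
      Ideal.Quotient.eq_zero_iff_mem.mpr ha, apply_ite (Ideal.Quotient.mk I)]
  let el : (Fin n → A) →ₗ[A] (Fin n → A) := Matrix.toLin' e
  have hel : ∀ v, el (el v) = el v := fun v => by
    rw [← LinearMap.comp_apply, ← Matrix.toLin'_mul, show e * e = e from hq]
  let P := LinearMap.range el
  let r : (Fin n → A) →ₗ[A] P := el.rangeRestrict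
  have hr : r ∘ₗ P.subtype = LinearMap.id := by
    refine LinearMap.ext fun ⟨v, w, hw⟩ => Subtype.ext ?_
    show el v = v
    rw [← hw, hel]
  have hfin : Module.Finite A P := Module.Finite.of_surjective r el.surjective_rangeRestrict
  have hproj : Module.Projective A P := Module.Projective.of_split P.subtype r hr
  refine ⟨P, inferInstance, inferInstance, hfin, hproj, ?_⟩
  let piE : (A ⧸ I) ⊗[A] (Fin n → A) ≃ₗ[A ⧸ I] (Fin n → A ⧸ I) :=
    TensorProduct.piScalarRight A (A ⧸ I) (A ⧸ I) (Fin n)
  have hconj : ∀ z, piE (el.baseChange (A ⧸ I) z) = s (π (piE z)) := by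
    intro z
    induction z using TensorProduct.induction_on with
    | zero => simp
    | add a b ha hb => simp [ha, hb]
    | tmul a v =>
      rw [LinearMap.baseChange_tmul, ← LinearMap.comp_apply, ← Matrix.toLin'_toMatrix' (s ∘ₗ π)]
      show piE (a ⊗ₜ[A] Matrix.mulVec e v) = Matrix.mulVec Ebar (piE (a ⊗ₜ[A] v))
      ext i
      rw [← hφe]
      simp [piE, φ, Matrix.mulVec, dotProduct, Algebra.smul_def, map_sum, Finset.mul_sum,
        Finset.sum_mul, mul_comm, mul_left_comm, mul_assoc]
  let f : (A ⧸ I) ⊗[A] P →ₗ[A ⧸ I] Q := π ∘ₗ piE.toLinearMap ∘ₗ P.subtype.baseChange (A ⧸ I)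
  let g : Q →ₗ[A ⧸ I] (A ⧸ I) ⊗[A] P := r.baseChange (A ⧸ I) ∘ₗ piE.symm.toLinearMap ∘ₗ s
  refine ⟨LinearEquiv.ofLinearMap f g (LinearMap.ext fun y => ?_) (LinearMap.ext fun z => ?_)⟩
  · show π (piE (P.subtype.baseChange (A ⧸ I) (r.baseChange (A ⧸ I) (piE.symm (s y))))) = y
    have h1 : ∀ z, P.subtype.baseChange (A ⧸ I) (r.baseChange (A ⧸ I) z) =
        el.baseChange (A ⧸ I) z := fun z => by
      rw [← LinearMap.comp_apply, ← LinearMap.baseChange_comp]; rfl
    rw [h1, hconj, LinearEquiv.apply_symm_apply]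
    have h2 : ∀ y, π (s y) = y := fun y => LinearMap.congr_fun hπs y
    simp [h2]
  · show r.baseChange (A ⧸ I) (piE.symm (s (π (piE (P.subtype.baseChange (A ⧸ I) z))))) = z
    rw [← hconj, LinearEquiv.symm_apply_apply]
    induction z using TensorProduct.induction_on with
    | zero => simp
    | add a b ha hb => simp only [map_add, ha, hb]
    | tmul a v =>
      simp only [LinearMap.baseChange_tmul]
      congr 1
      obtain ⟨w, x, rfl⟩ := v
      exact Subtype.ext (show el (el (el x)) = el x by rw [hel, hel])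

end Groth.L05
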