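import Groth.Agent.L05.Hensel.Product
import Mathlib.RingTheory.TensorProduct.Quotient
import Mathlib.RingTheory.Unramified.Field
import Mathlib.RingTheory.LocalRing.ResidueField.Ideal

/-!
Maps out of étale algebras into henselian rings.
-/

set_option autoImplicit false

open TensorProduct

namespace Groth.L05

universe u v w

variable {R : Type u} [CommRing R]

/-- Maps from an étale algebra to a henselian pair reduce bijectively modulo the ideal. -/
theorem existsUnique_algHom_lift_etale {B : Type v} [CommRing B] [Algebra R B] (I : Ideal B)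
    [h : HenselianRing B I] {S : Type w} [CommRing S] [Algebra R S] [Algebra.Etale R S]
    (σ : S →ₐ[R] B ⧸ I) : ∃! τ : S →ₐ[R] B, (Ideal.Quotient.mkₐ R I).comp τ = σ := by
  let σ' : B ⊗[R] S →ₐ[B] B ⧸ I :=
    Algebra.TensorProduct.lift (Algebra.ofId B (B ⧸ I)) σ fun _ _ => Commute.all _ _
  obtain ⟨τ, hτ⟩ := exists_algHom_lift I σ'
  refine ⟨(τ.restrictScalars R).comp Algebra.TensorProduct.includeRight, AlgHom.ext fun x => ?_,
    fun f hf => ?_⟩
  · have := DFunLike.congr_fun hτ ((1 : B) ⊗ₜ[R] x)
    simpa [σ'] using this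
  · refine algHom_eq_of_sub_mem h.jac f _ fun x => ?_
    rw [← Ideal.Quotient.eq]
    have h1 := DFunLike.congr_fun hτ ((1 : B) ⊗ₜ[R] x)
    have h2 := DFunLike.congr_fun hf x
    simp [σ'] at h1 h2 ⊢
    rw [h1, h2]

/-- Maps between algebras which are integral over a henselian pair, the source étale, reduce
bijectively. -/
theorem bijective_map_baseChange {A : Type u} [CommRing A] (I : Ideal A) [HenselianRing A I]
    {B₁ : Type v} {B₂ : Type w} [CommRing B₁] [CommRing B₂] [Algebra A B₁] [Algebra A B₂]
    [Algebra.Etale A B₁] [Algebra.IsIntegral A B₂] :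
    Function.Bijective (fun φ : B₁ →ₐ[A] B₂ =>
      Algebra.TensorProduct.map (AlgHom.id (A ⧸ I) (A ⧸ I)) φ) := by
  have := henselianRing_map_of_isIntegral I B₂
  let J := I.map (algebraMap A B₂)
  let E : (A ⧸ I) ⊗[A] B₂ ≃ₐ[A] B₂ ⧸ J :=
    (Algebra.TensorProduct.comm A (A ⧸ I) B₂).trans
      ((Algebra.TensorProduct.quotIdealMapEquivTensorQuot B₂ I).symm.restrictScalars A)
  have hE : ∀ y : B₂, E ((1 : A ⧸ I) ⊗ₜ[A] y) = Ideal.Quotient.mk J y := by
    intro y
    show (Algebra.TensorProduct.quotIdealMapEquivTensorQuot B₂ I).symm (y ⊗ₜ[A] (1 : A ⧸ I)) = _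
    rw [← Algebra.TensorProduct.quotIdealMapEquivTensorQuot_mk, AlgEquiv.symm_apply_apply]
  refine ⟨fun φ ψ hφψ => ?_, fun χ => ?_⟩
  · refine algHom_eq_of_sub_mem (J := J) (map_le_jacobson_bot HenselianRing.jac) φ ψ fun x => ?_
    rw [← Ideal.Quotient.eq]
    have h1 := DFunLike.congr_fun hφψ ((1 : A ⧸ I) ⊗ₜ[A] x)
    simp only [Algebra.TensorProduct.map_tmul, map_one] at h1
    rw [← hE, ← hE, h1]
  · obtain ⟨τ, hτ, -⟩ := existsUnique_algHom_lift_etale (R := A) J
      (E.toAlgHom.comp ((χ.restrictScalars A).comp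
        (Algebra.TensorProduct.includeRight : B₁ →ₐ[A] (A ⧸ I) ⊗[A] B₁)))
    refine ⟨τ, Algebra.TensorProduct.ext' fun a x => ?_⟩
    have h1 := DFunLike.congr_fun hτ x
    simp only [AlgHom.comp_apply, Ideal.Quotient.mkₐ_eq_mk, AlgEquiv.coe_toAlgHom] at h1
    rw [← hE] at h1
    have h2 : (1 : A ⧸ I) ⊗ₜ[A] τ x = χ ((1 : A ⧸ I) ⊗ₜ[A] x) := E.injective h1
    show ((AlgHom.id (A ⧸ I) (A ⧸ I)) a) ⊗ₜ[A] τ x = χ (a ⊗ₜ[A] x)
    have e1 : a ⊗ₜ[A] x = a • ((1 : A ⧸ I) ⊗ₜ[A] x) := by
      rw [TensorProduct.smul_tmul', smul_eq_mul, mul_one]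
    rw [e1, map_smul, ← h2, TensorProduct.smul_tmul', smul_eq_mul, mul_one, AlgHom.id_apply]

open IsLocalRing

/-- The unique map from an étale algebra to a henselian local ring with given residue map. -/
theorem existsUnique_algHom_residue (S : Type v) [CommRing S] [HenselianLocalRing S] [Algebra R S]
    (A : Type w) [CommRing A] [Algebra R A] [Algebra.Etale R A] (q : Ideal A) [q.IsPrime]
    (τ : q.ResidueField →+* ResidueField S)
    (hτ : τ.comp (algebraMap R q.ResidueField) = (residue S).comp (algebraMap R S)) :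
    ∃! f : A →ₐ[R] S, Ideal.comap f.toRingHom (maximalIdeal S) = q ∧
      ∀ a : A, residue S (f a) = τ (algebraMap A q.ResidueField a) := by
  let σ : A →ₐ[R] S ⧸ maximalIdeal S :=
    { toRingHom := τ.comp (algebraMap A q.ResidueField)
      commutes' := fun r => by
        show τ (algebraMap A q.ResidueField (algebraMap R A r)) = _
        rw [← IsScalarTower.algebraMap_apply]
        exact RingHom.congr_fun hτ r }
  obtain ⟨f, hf, huniq⟩ := existsUnique_algHom_lift_etale (maximalIdeal S) σ
  have hres : ∀ a, residue S (f a) = τ (algebraMap A q.ResidueField a) := fun a =>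
    DFunLike.congr_fun hf a
  refine ⟨f, ⟨?_, hres⟩, fun g hg => huniq g (AlgHom.ext fun a => hg.2 a)⟩
  ext a
  rw [Ideal.mem_comap, ← residue_eq_zero_iff]
  show residue S (f a) = 0 ↔ _
  rw [hres, map_eq_zero, Ideal.algebraMap_residueField_eq_zero]

/-- Points of an unramified algebra in a field have coordinates in a separably closed subfield. -/
theorem exists_point_of_isSepClosed {k : Type u} [Field k] [IsSepClosed k] {L : Type v} [Field L]
    [Algebra k L] {B : Type w} [CommRing B] [Algebra k B] [Algebra.Unramified k B] (p : B →ₐ[k] L) :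
    ∀ x : B, ∃ y : k, algebraMap k L y = p x := by
  have : Algebra.EssFiniteType k p.range := by
    have : Algebra.FiniteType k p.range :=
      Algebra.FiniteType.of_surjective p.rangeRestrict p.rangeRestrict_surjective
    infer_instance
  have : Algebra.FormallyUnramified k p.range :=
    Algebra.FormallyUnramified.of_surjective p.rangeRestrict p.rangeRestrict_surjective
  have hfin : Module.Finite k p.range := Algebra.FormallyUnramified.finite_of_free k _
  have : IsDomain p.range := inferInstance
  let : Field p.range := ((Algebra.IsIntegral.isField_iff_isField (R := k)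
    (algebraMap k p.range).injective).mp (Field.toIsField k)).toField
  have : Algebra.IsSeparable k p.range := Algebra.FormallyUnramified.isSeparable k _
  intro x
  obtain ⟨y, hy⟩ := IsSepClosed.algebraMap_surjective k p.range (p.rangeRestrict x)
  exact ⟨y, congrArg Subtype.val hy⟩

end Groth.L05
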