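import Groth.Agent.L05.Hensel.Newton
import Groth.Agent.L05.Hensel.Projective
import Mathlib.RingTheory.Smooth.Basic
import Mathlib.RingTheory.Nakayama

/-!
# Lifting sections of smooth algebras along henselian pairs

For a presentation `π : P → S` of a smooth algebra a section of `P/J² → S` gives `r i ∈ J` with
`f ≡ ∑ ∂ᵢf * rᵢ mod J²` on `J`; the point is found by Newton's lemma for the square system
`r + (x - a)(1 - E')`, where `E'` is an idempotent lifting the matrix `∂ᵢ rⱼ`.
-/

open MvPolynomial Matrix

namespace Groth.L05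

universe u v

variable {A : Type u} [CommRing A]

theorem taylor_sub_mem_sq {n : ℕ} (J : Ideal (MvPolynomial (Fin n) A))
    (r : Fin n → MvPolynomial (Fin n) A) (hr : ∀ i, r i ∈ J) (f : MvPolynomial (Fin n) A) :
    aeval (fun i => X i - r i) f - f + ∑ i, pderiv i f * r i ∈ J ^ 2 := by
  induction f using MvPolynomial.induction_on with
  | C a => simp
  | add f g hf hg =>
    convert (J ^ 2).add_mem hf hg using 1
    simp only [map_add, add_mul, Finset.sum_add_distrib]
    ring
  | mul_X f k hf =>
    have hS : ∑ i, pderiv i f * r i ∈ J := sum_mem fun i _ => J.mul_mem_left _ (hr i)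
    convert (J ^ 2).add_mem ((J ^ 2).mul_mem_right (X k - r k) hf)
      (show (∑ i, pderiv i f * r i) * r k ∈ J ^ 2 by rw [pow_two]; exact Ideal.mul_mem_mul hS (hr k))
      using 1
    have e : ∑ i, pderiv i (f * X k) * r i = (∑ i, pderiv i f * r i) * X k + f * r k := by
      simp only [pderiv_mul, add_mul, Finset.sum_add_distrib, Finset.sum_mul]
      congr 1
      · exact Finset.sum_congr rfl fun i _ => by ring
      · rw [Finset.sum_eq_single k]
        · rw [pderiv_X_self, mul_one]
        · intro i _ hi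
          rw [pderiv_X_of_ne hi.symm, mul_zero, zero_mul]
        · simp
    rw [e, map_mul, aeval_X]
    ring

theorem pderiv_mem_of_mem_sq {n : ℕ} (J : Ideal (MvPolynomial (Fin n) A))
    {f : MvPolynomial (Fin n) A} (hf : f ∈ J ^ 2) (k : Fin n) : pderiv k f ∈ J := by
  rw [pow_two] at hf
  refine Submodule.mul_induction_on hf (fun x hx y hy => ?_) fun x y hx hy => ?_
  · rw [pderiv_mul]
    exact J.add_mem (J.mul_mem_left _ hy) (J.mul_mem_right _ hx)
  · rw [map_add]
    exact J.add_mem hx hy

/-- A section modulo a henselian ideal of a smooth algebra lifts. -/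
theorem exists_algHom_lift_smooth (I : Ideal A) [hI : HenselianRing A I] {S : Type v} [CommRing S]
    [Algebra A S] [Algebra.Smooth A S] (σ : S →ₐ[A] A ⧸ I) :
    ∃ τ : S →ₐ[A] A, (Ideal.Quotient.mkₐ A I).comp τ = σ := by
  classical
  obtain ⟨n, π, hπ, hJfg⟩ := Algebra.FinitePresentation.out (R := A) (A := S)
  set J := RingHom.ker π.toRingHom
  let P := MvPolynomial (Fin n) A
  let π' : (P ⧸ J ^ 2) →ₐ[A] S := Ideal.Quotient.liftₐ (J ^ 2) π fun x hx =>
    Ideal.pow_le_self two_ne_zero hx
  have hπ' : Function.Surjective π' := fun s => by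
    obtain ⟨x, rfl⟩ := hπ s
    exact ⟨Ideal.Quotient.mk _ x, rfl⟩
  have hsq : RingHom.ker π' ^ 2 = ⊥ := by
    have : RingHom.ker π' ≤ J.map (Ideal.Quotient.mk (J ^ 2)) := fun x hx => by
      obtain ⟨x, rfl⟩ := Ideal.Quotient.mk_surjective x
      exact Ideal.mem_map_of_mem _ hx
    refine le_bot_iff.mp ((Ideal.pow_right_mono this 2).trans ?_)
    rw [← Ideal.map_pow, Ideal.map_quotient_self]
  obtain ⟨g, hg⟩ := Algebra.FormallySmooth.comp_surjective A S (RingHom.ker π') hsq
    (Ideal.quotientKerAlgEquivOfSurjective hπ').symm.toAlgHom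
  have hgs : ∀ s, π' (g s) = s := fun s => by
    have h := congrArg (Ideal.quotientKerAlgEquivOfSurjective hπ') (DFunLike.congr_fun hg s)
    simpa [Ideal.quotientKerAlgEquivOfSurjective_mk] using h
  choose w hw using fun i : Fin n => Ideal.Quotient.mk_surjective (g (π (X i)))
  let r : Fin n → P := fun i => X i - w i
  have hr : ∀ i, r i ∈ J := fun i => by
    show π (X i - w i) = 0
    rw [map_sub, sub_eq_zero]
    have := hgs (π (X i))
    rw [← hw] at this
    exact this.symm
  have hu : (fun i => X i - r i) = w := funext fun i => sub_sub_cancel _ _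
  have hexp : ∀ f ∈ J, f - ∑ i, pderiv i f * r i ∈ J ^ 2 := by
    intro f hf
    have h1 : (Ideal.Quotient.mkₐ A (J ^ 2)).comp (aeval w) = g.comp π :=
      MvPolynomial.algHom_ext fun i => by
        simpa using hw i
    have h2 : aeval w f ∈ J ^ 2 := by
      rw [← Ideal.Quotient.eq_zero_iff_mem]
      refine (DFunLike.congr_fun h1 f).trans ?_
      show g (π f) = 0
      rw [show π f = 0 from hf, map_zero]
    have h3 := taylor_sub_mem_sq J r hr f
    rw [hu] at h3
    convert (J ^ 2).sub_mem h2 h3 using 1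
    ring
  choose a ha using fun i : Fin n => Ideal.Quotient.mk_surjective (σ (π (X i)))
  have hσ : ∀ f : P, Ideal.Quotient.mk I (eval a f) = σ (π f) := by
    have : (Ideal.Quotient.mkₐ A I).comp (aeval a) = σ.comp π :=
      MvPolynomial.algHom_ext fun i => by simpa using ha i
    intro f
    rw [← aeval_apply_eq_eval]
    exact DFunLike.congr_fun this f
  have hJa : ∀ f ∈ J, eval a f ∈ I := fun f hf => by
    rw [← Ideal.Quotient.eq_zero_iff_mem, hσ, show π f = 0 from hf, map_zero]
  let E : (Fin n → A) → Matrix (Fin n) (Fin n) A := fun b =>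
    Matrix.of fun i j => eval b (pderiv i (r j))
  let φ := (Ideal.Quotient.mk I).mapMatrix (m := Fin n)
  have hidem : φ (E a) * φ (E a) = φ (E a) := by
    rw [← map_mul]
    ext k j
    show Ideal.Quotient.mk I ((E a * E a) k j) = Ideal.Quotient.mk I (E a k j)
    rw [eq_comm, Ideal.Quotient.eq, Matrix.mul_apply]
    have h1 := pderiv_mem_of_mem_sq J (hexp (r j) (hr j)) k
    rw [map_sub, map_sum] at h1
    have h2 : ∑ i, pderiv k (pderiv i (r j) * r i) - ∑ i, pderiv k (r i) * pderiv i (r j) ∈ J := by
      rw [← Finset.sum_sub_distrib]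
      refine sum_mem fun i _ => ?_
      rw [pderiv_mul, add_sub_assoc, mul_comm (pderiv i (r j)) (pderiv k (r i)), sub_self, add_zero]
      exact J.mul_mem_left _ (hr i)
    have h3 := hJa _ (J.add_mem h1 h2)
    rw [show ∀ x y z : P, x - y + (y - z) = x - z from fun x y z => by ring] at h3
    simpa [E] using h3
  obtain ⟨q, hq, hqφ⟩ := exists_aeval_idem I (E a) fun z => by
    have hmem : ∀ k j, ((E a * E a - E a) * z) k j ∈ I := fun k j => by
      rw [← Ideal.Quotient.eq_zero_iff_mem]
      have : φ ((E a * E a - E a) * z) = 0 := by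
        rw [map_mul, map_sub, map_mul, hidem, sub_self, zero_mul]
      exact congrFun (congrFun this k) j
    rw [Matrix.matrix_eq_sum_single ((E a * E a - E a) * z)]
    refine sum_mem fun k _ => sum_mem fun j _ => ?_
    rw [show Matrix.single k j (((E a * E a - E a) * z) k j) =
      (((E a * E a - E a) * z) k j) • Matrix.single k j (1 : A) by
        rw [Matrix.smul_single, smul_eq_mul, mul_one]]
    exact Submodule.smul_mem_smul (hmem k j) trivial
  set E' := Polynomial.aeval (E a) q
  have hE' : φ E' = φ (E a) := hqφ φ (fun c hc => by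
    ext k j
    show Ideal.Quotient.mk I (algebraMap A (Matrix (Fin n) (Fin n) A) c k j) = 0
    rw [Matrix.algebraMap_matrix_apply]
    split_ifs
    · exact Ideal.Quotient.eq_zero_iff_mem.mpr hc
    · exact map_zero _) hidem
  let M := (1 : Matrix (Fin n) (Fin n) A) - E'
  let h : Fin n → P := fun j => r j + ∑ l, (X l - C (a l)) * C (M l j)
  have hh : ∀ j, eval a (h j) ∈ I := fun j => by
    simpa [h] using hJa _ (hr j)
  have hdet : IsUnit (Ideal.Quotient.mk I
      (eval a (Matrix.of fun i j => pderiv i (h j)).det)) := by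
    have e : ((Matrix.of fun i j => pderiv i (h j)).map (eval a)) = E a + M := by
      ext i j
      simp only [Matrix.map_apply, Matrix.of_apply, Matrix.add_apply, h, map_add, map_sum, pderiv_mul,
        map_sub, pderiv_C, sub_zero, mul_zero, add_zero, map_mul, eval_C, E]
      congr 1
      rw [Finset.sum_eq_single i]
      · simp
      · intro l _ hl
        simp [pderiv_X_of_ne hl]
      · simp
    rw [RingHom.map_det, RingHom.mapMatrix_apply, e, RingHom.map_det]
    show IsUnit (φ (E a + M)).det
    rw [map_add, map_sub, hE', map_one, add_sub_cancel, Matrix.det_one]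
    exact isUnit_one
  obtain ⟨b, hb, hb0⟩ := exists_zero_of_jacobian I h a hh hdet
  have hab : ∀ f : P, Ideal.Quotient.mk I (eval b f) = Ideal.Quotient.mk I (eval a f) := by
    have : (Ideal.Quotient.mk I).comp (eval b) = (Ideal.Quotient.mk I).comp (eval a) :=
      MvPolynomial.ringHom_ext (fun c => by simp) fun i => by
        simpa using Ideal.Quotient.eq.mpr (hb i)
    exact fun f => DFunLike.congr_fun this f
  set c : Fin n → A := fun j => eval b (r j)
  have hcE : Matrix.vecMul c E' = 0 := by
    have h1 : c = -Matrix.vecMul (fun l => b l - a l) M := funext fun j => by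
      have := hb0 j
      simp [h] at this
      exact eq_neg_of_add_eq_zero_left this
    rw [h1, Matrix.neg_vecMul, Matrix.vecMul_vecMul, sub_mul, one_mul, hq.eq, sub_self,
      Matrix.vecMul_zero, neg_zero]
  set 𝔡 := J.map (eval b)
  have hc : ∀ i, c i ∈ 𝔡 := fun i => Ideal.mem_map_of_mem _ (hr i)
  have hdI : 𝔡 ≤ I := Ideal.map_le_iff_le_comap.mpr fun f hf => by
    rw [Ideal.mem_comap, ← Ideal.Quotient.eq_zero_iff_mem, hab, Ideal.Quotient.eq_zero_iff_mem]
    exact hJa f hf
  have hsq' : ∀ f ∈ J ^ 2, eval b f ∈ I • 𝔡 := fun f hf => by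
    have := Ideal.mem_map_of_mem (eval b) hf
    rw [Ideal.map_pow, pow_two] at this
    exact Ideal.mul_mono_left hdI this
  have hcj : ∀ j, c j ∈ I • 𝔡 := fun j => by
    have h1 := hsq' _ (hexp (r j) (hr j))
    rw [map_sub, map_sum] at h1
    simp only [map_mul] at h1
    have h2 : ∑ i, eval b (pderiv i (r j)) * c i ∈ I • 𝔡 := by
      have : ∑ i, eval b (pderiv i (r j)) * c i =
          ∑ i, (eval b (pderiv i (r j)) - E' i j) * c i + Matrix.vecMul c E' j := by
        rw [Matrix.vecMul, dotProduct, ← Finset.sum_add_distrib]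
        exact Finset.sum_congr rfl fun i _ => by ring
      rw [this, hcE, Pi.zero_apply, add_zero]
      refine sum_mem fun i _ => Ideal.mul_mem_mul ?_ (hc i)
      rw [← Ideal.Quotient.eq, hab]
      exact (congrFun (congrFun hE' i) j).symm
    simpa [c] using Submodule.add_mem _ h1 h2
  have hle : 𝔡 ≤ I • 𝔡 := Ideal.map_le_iff_le_comap.mpr fun f hf => by
    have h1 := hsq' _ (hexp f hf)
    rw [map_sub, map_sum] at h1
    simp only [map_mul] at h1
    have h2 : ∑ i, eval b (pderiv i f) * c i ∈ I • 𝔡 :=
      sum_mem fun i _ => Ideal.mul_mem_left _ _ (hcj i)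
    simpa [Ideal.mem_comap, c] using Submodule.add_mem _ h1 h2
  have hzero : 𝔡 = ⊥ :=
    Submodule.eq_bot_of_le_smul_of_le_jacobson_bot I 𝔡 (Ideal.FG.map hJfg _) hle hI.jac
  have hker : ∀ f ∈ J, (aeval b : P →ₐ[A] A) f = 0 := fun f hf => by
    rw [aeval_apply_eq_eval, ← Ideal.mem_bot (R := A), ← hzero]
    exact Ideal.mem_map_of_mem _ hf
  refine ⟨AlgHom.liftOfSurjective π hπ (aeval b) hker, AlgHom.ext fun s => ?_⟩
  obtain ⟨f, rfl⟩ := hπ s
  rw [AlgHom.comp_apply, AlgHom.liftOfSurjective_apply, ← hσ, ← hab]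
  simp [aeval_apply_eq_eval]

end Groth.L05
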