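import Groth.Agent.L05.Hensel.LocalAlg
import Mathlib.Algebra.Polynomial.Lifts

/-!
Criteria for henselian local rings.
-/

set_option autoImplicit false

open Polynomial IsLocalRing

namespace Groth.L05

universe u v

variable {A : Type u} [CommRing A] [IsLocalRing A]

/-- For a simple root of the reduction of a monic polynomial there is a standard étale algebra
whose closed fibre is the residue field and whose points give root lifts. -/
theorem exists_pair_of_simple_root (f : A[X]) (hf : f.Monic) (a₀ : A)
    (h1 : f.eval a₀ ∈ maximalIdeal A) (h2 : IsUnit (f.derivative.eval a₀)) :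
    ∃ P : StandardEtalePair A, ∃ σ : P.Ring →ₐ[A] A ⧸ maximalIdeal A,
      (∀ x : P.Ring, ∃ a : A, x - algebraMap A P.Ring a ∈
        (maximalIdeal A).map (algebraMap A P.Ring)) ∧
      ∀ τ : P.Ring →ₐ[A] A, f.IsRoot (τ P.X) ∧ τ P.X - a₀ ∈ maximalIdeal A := by
  set m := maximalIdeal A
  set π := Ideal.Quotient.mk m
  obtain ⟨q, hq⟩ := X_sub_C_dvd_sub_C_eval (a := π a₀) (p := f.map π)
  rw [eval_map_apply, Ideal.Quotient.eq_zero_iff_mem.mpr h1, map_zero, sub_zero] at hq
  obtain ⟨Q, hQ⟩ := Polynomial.map_surjective π Ideal.Quotient.mk_surjective q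
  have hQd : π (Q.eval a₀) = π (f.derivative.eval a₀) := by
    rw [← eval_map_apply, hQ, ← eval_map_apply (f := π), ← derivative_map, hq]
    simp
  let P : StandardEtalePair A := ⟨f, hf, derivative f * Q, Q, 0, 1, by simp⟩
  have hmap : P.HasMap (π a₀) := by
    refine ⟨?_, ?_⟩
    · show aeval (algebraMap A (A ⧸ m) a₀) f = 0
      rw [aeval_algebraMap_apply_eq_algebraMap_eval]
      exact Ideal.Quotient.eq_zero_iff_mem.mpr h1
    · show IsUnit (aeval (algebraMap A (A ⧸ m) a₀) (derivative f * Q))
      rw [aeval_algebraMap_apply_eq_algebraMap_eval, eval_mul, map_mul]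
      exact (h2.map π).mul (hQd ▸ h2.map π)
  set J := m.map (algebraMap A P.Ring)
  have hX : Ideal.Quotient.mkₐ A J P.X = algebraMap A (P.Ring ⧸ J) a₀ := by
    have hfX : aeval P.X f = 0 := (StandardEtalePair.hasMap_X (P := P)).1
    have hQX : IsUnit (aeval P.X Q) := by
      have h := (StandardEtalePair.hasMap_X (P := P)).2
      have h' : IsUnit (aeval P.X (derivative f) * aeval P.X Q) := by rw [← map_mul]; exact h
      exact (IsUnit.mul_iff.mp h').2
    have hdiff : aeval P.X (f - (X - C a₀) * Q) ∈ J := by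
      rw [aeval_eq_sum_range]
      refine Ideal.sum_mem _ fun i _ => ?_
      rw [Algebra.smul_def]
      refine Ideal.mul_mem_right _ _ (Ideal.mem_map_of_mem _ ?_)
      rw [← Ideal.Quotient.eq_zero_iff_mem, ← coeff_map, Polynomial.map_sub, Polynomial.map_mul,
        Polynomial.map_sub, map_X, map_C, hQ, hq, sub_self, coeff_zero]
    rw [map_sub, map_mul, hfX, zero_sub, map_sub, aeval_X, aeval_C, neg_mem_iff,
      Ideal.mul_unit_mem_iff_mem J hQX] at hdiff
    exact Ideal.Quotient.eq.mpr hdiff
  refine ⟨P, P.lift _ hmap, ?_, fun τ => ?_⟩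
  · intro x
    obtain ⟨a, ha⟩ := Ideal.Quotient.mk_surjective (P.lift _ hmap x)
    refine ⟨a, ?_⟩
    let j : (A ⧸ m) →ₐ[A] P.Ring ⧸ J := Ideal.Quotient.liftₐ m (Algebra.ofId A _) fun i hi => by
      show algebraMap A (P.Ring ⧸ J) i = 0
      rw [IsScalarTower.algebraMap_apply A P.Ring, Ideal.Quotient.algebraMap_eq,
        Ideal.Quotient.eq_zero_iff_mem]
      exact Ideal.mem_map_of_mem _ hi
    have heq : Ideal.Quotient.mkₐ A J = j.comp (P.lift _ hmap) := by
      refine StandardEtalePair.hom_ext ?_
      rw [AlgHom.comp_apply, StandardEtalePair.lift_X, hX]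
      rfl
    rw [← Ideal.Quotient.eq]
    have := DFunLike.congr_fun heq x
    rw [AlgHom.comp_apply, ← ha] at this
    exact this
  · refine ⟨?_, ?_⟩
    · have := ((StandardEtalePair.hasMap_X (P := P)).map τ).1
      rw [← Algebra.algebraMap_self_apply (τ P.X)] at this
      rw [aeval_algebraMap_apply_eq_algebraMap_eval] at this
      exact this
    · have hJ : J ≤ m.comap (τ : P.Ring →+* A) := by
        rw [Ideal.map_le_iff_le_comap]
        intro i hi
        simpa using hi
      have : τ (P.X - algebraMap A P.Ring a₀) ∈ m := hJ (Ideal.Quotient.eq.mp hX)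
      simpa using this

/-- A local ring all whose pointed étale algebras with trivial closed fibre have retractions is
henselian. -/
theorem henselianLocalRing_of_retraction
    (h : ∀ (S : Type u) [CommRing S] [Algebra A S] [Algebra.Etale A S]
      (σ : S →ₐ[A] A ⧸ maximalIdeal A),
      (∀ x : S, ∃ a : A, x - algebraMap A S a ∈ (maximalIdeal A).map (algebraMap A S)) →
      Nonempty (S →ₐ[A] A)) : HenselianLocalRing A := by
  refine ⟨fun f hf a₀ h1 h2 => ?_⟩
  obtain ⟨P, σ, hP, hroot⟩ := exists_pair_of_simple_root f hf a₀ h1 h2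
  obtain ⟨τ⟩ := h P.Ring σ hP
  exact ⟨τ P.X, hroot τ⟩

/-- If finite type algebras split into a finite part and a part nowhere quasi-finite over the closed
point, the ring is henselian. -/
theorem henselianLocalRing_of_finiteType_split
    (h : ∀ (S : Type u) [CommRing S] [Algebra A S] [Algebra.FiniteType A S],
      ∃ e : S, IsIdempotentElem e ∧ Module.Finite A (S ⧸ Ideal.span ({1 - e} : Set S)) ∧
        ∀ (q : Ideal S) [q.IsPrime], e ∈ q → q.LiesOver (maximalIdeal A) →
          ¬ Algebra.QuasiFiniteAt A q) : HenselianLocalRing A := by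
  refine henselianLocalRing_of_retraction fun S _ _ _ σ hS => ?_
  obtain ⟨e, he, hfin, hqf⟩ := h S
  let : Field (A ⧸ maximalIdeal A) := Ideal.Quotient.field _
  have hσe : σ e = 1 := by
    rcases IsIdempotentElem.iff_eq_zero_or_one.mp (he.map σ) with h0 | h0
    · exfalso
      have : (RingHom.ker (σ : S →+* A ⧸ maximalIdeal A)).IsPrime := RingHom.ker_isPrime _
      refine hqf (RingHom.ker (σ : S →+* A ⧸ maximalIdeal A)) h0 ⟨?_⟩ inferInstance
      ext a
      simp [Ideal.Quotient.eq_zero_iff_mem]
    · exact h0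
  set J := Ideal.span ({1 - e} : Set S)
  have hle : (⊤ : Submodule A (S ⧸ J)) ≤ Submodule.span A {1} := by
    refine Submodule.le_of_le_smul_of_le_jacobson_bot Module.Finite.fg_top
      (maximalIdeal_le_jacobson _) ?_
    intro z _
    obtain ⟨x, rfl⟩ := Ideal.Quotient.mk_surjective z
    obtain ⟨a, ha⟩ := hS x
    refine Submodule.mem_sup.mpr ⟨a • 1, Submodule.smul_mem _ _ (Submodule.subset_span rfl),
      Ideal.Quotient.mk J (x - algebraMap A S a), ?_, ?_⟩
    · rw [Ideal.smul_top_eq_map]
      have := Ideal.mem_map_of_mem (Ideal.Quotient.mk J) ha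
      rw [Ideal.map_map] at this
      exact this
    · rw [Algebra.smul_def, mul_one, IsScalarTower.algebraMap_apply A S, Ideal.Quotient.algebraMap_eq,
        map_sub, add_sub_cancel]
  obtain ⟨τ, -⟩ := exists_section_of_idem (maximalIdeal_le_jacobson _) σ he hσe fun x => by
    obtain ⟨a, ha⟩ := Submodule.mem_span_singleton.mp
      (hle (Submodule.mem_top (x := Ideal.Quotient.mk J x)))
    refine ⟨a, ?_⟩
    rw [Algebra.smul_def, mul_one, IsScalarTower.algebraMap_apply A S, Ideal.Quotient.algebraMap_eq,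
      Ideal.Quotient.eq, Ideal.mem_span_singleton'] at ha
    obtain ⟨c, hc⟩ := ha
    linear_combination e * hc + c * he.eq
  exact ⟨τ⟩

end Groth.L05
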