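import Groth.Agent.S9231
import Groth.Agent.L05.Rig.Closed
import Groth.Agent.L01.AnalUnram
import Groth.Agent.L05.Henselization.StrictUniq
import Mathlib.RingTheory.Unramified.LocalRing
import Mathlib.RingTheory.AdicCompletion.LocalRing
import Mathlib.RingTheory.Etale.Basic
import Mathlib.RingTheory.RingHom.Etale
import Mathlib.RingTheory.RingHom.Unramified
import Mathlib.RingTheory.RingHom.FiniteType
import Mathlib.RingTheory.LocalRing.Module
import Mathlib.LinearAlgebra.Dimension.Free
import Mathlib.FieldTheory.Separable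

/-!
# Unramified and étale local homomorphisms and completions
-/

set_option autoImplicit false
set_option linter.style.haveILetI false

open IsLocalRing

namespace Groth.L05.CplUnr

universe u

variable (A : Type u) [CommRing A] [IsLocalRing A] [IsNoetherianRing A]

local notation "Cp" => AdicCompletion (maximalIdeal A) A

theorem exists_sub_mem (x : Cp) : ∃ a : A, x - algebraMap A Cp a ∈ maximalIdeal Cp := by
  obtain ⟨f, rfl⟩ := AdicCompletion.mk_surjective (maximalIdeal A) A x
  refine ⟨f 1, ?_⟩
  have h1 : AdicCompletion.mk (maximalIdeal A) A f - algebraMap A Cp (f 1) ∈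
      LinearMap.ker (AdicCompletion.eval (maximalIdeal A) A 1) := by
    rw [LinearMap.mem_ker, map_sub, sub_eq_zero]; rfl
  rw [← AdicCompletion.pow_smul_top_eq_ker_eval (IsNoetherian.noetherian (maximalIdeal A)), pow_one,
    Ideal.smul_top_eq_map, Submodule.restrictScalars_mem,
    Groth.L01.AnalUnram.completion_map_maximalIdeal A] at h1
  exact h1

theorem residue_bijective [IsLocalHom (algebraMap A Cp)] :
    Function.Bijective (algebraMap (ResidueField A) (ResidueField Cp)) := by
  refine ⟨RingHom.injective _, fun y => ?_⟩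
  obtain ⟨x, rfl⟩ := residue_surjective y
  obtain ⟨a, ha⟩ := exists_sub_mem A x
  exact ⟨residue A a, (Ideal.Quotient.eq.mpr ha).symm⟩

theorem isLocalHom_cpl : IsLocalHom (algebraMap A Cp) := by
  refine ((local_hom_TFAE (algebraMap A Cp)).out 0 2 rfl rfl).mpr ?_
  exact (Groth.L01.AnalUnram.completion_map_maximalIdeal A).le

variable (B : Type u) [CommRing B] [IsLocalRing B] [IsNoetherianRing B] [Algebra A B]
  [IsLocalHom (algebraMap A B)] [Algebra.EssFiniteType A B]

local notation "Cq" => AdicCompletion (maximalIdeal B) B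

variable [Algebra (AdicCompletion (maximalIdeal A) A) (AdicCompletion (maximalIdeal B) B)]
  [IsScalarTower A (AdicCompletion (maximalIdeal A) A) (AdicCompletion (maximalIdeal B) B)]

omit [Algebra.EssFiniteType A B] in
theorem map_maximalIdeal_eq :
    (maximalIdeal Cp).map (algebraMap Cp Cq) = ((maximalIdeal A).map (algebraMap A B)).map (algebraMap B Cq) := by
  rw [← Groth.L01.AnalUnram.completion_map_maximalIdeal A, Ideal.map_map, ← IsScalarTower.algebraMap_eq A Cp Cq,
    IsScalarTower.algebraMap_eq A B Cq, ← Ideal.map_map]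

omit [Algebra.EssFiniteType A B] in
theorem isLocalHom_map : IsLocalHom (algebraMap Cp Cq) := by
  refine ((local_hom_TFAE (algebraMap Cp Cq)).out 0 2 rfl rfl).mpr ?_
  rw [map_maximalIdeal_eq A B]
  exact (Ideal.map_mono (map_maximalIdeal_le (algebraMap A B))).trans
    (Groth.L01.AnalUnram.completion_map_maximalIdeal B).le

omit [Algebra.EssFiniteType A B] in
theorem separable_iff [IsLocalHom (algebraMap Cp Cq)] :
    Algebra.IsSeparable (ResidueField Cp) (ResidueField Cq) ↔
      Algebra.IsSeparable (ResidueField A) (ResidueField B) := by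
  haveI := isLocalHom_cpl A
  haveI := isLocalHom_cpl B
  let e₁ := RingEquiv.ofBijective _ (residue_bijective A)
  let e₂ := RingEquiv.ofBijective _ (residue_bijective B)
  have he : (algebraMap (ResidueField Cp) (ResidueField Cq)).comp e₁.toRingHom =
      e₂.toRingHom.comp (algebraMap (ResidueField A) (ResidueField B)) := by
    refine RingHom.ext fun y => ?_
    obtain ⟨a, rfl⟩ := residue_surjective y
    show residue Cq (algebraMap Cp Cq (algebraMap A Cp a)) = residue Cq (algebraMap B Cq (algebraMap A B a))
    rw [← IsScalarTower.algebraMap_apply A Cp Cq, ← IsScalarTower.algebraMap_apply A B Cq]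
  refine ⟨fun h => ?_, fun h => Algebra.IsSeparable.of_equiv_equiv e₁ e₂ he⟩
  refine Algebra.IsSeparable.of_equiv_equiv e₁.symm e₂.symm (RingHom.ext fun y => ?_)
  obtain ⟨z, rfl⟩ := e₁.surjective y
  apply e₂.injective
  simpa using (RingHom.congr_fun he z).symm

omit [Algebra.EssFiniteType A B] in
theorem map_eq_iff :
    (maximalIdeal Cp).map (algebraMap Cp Cq) = maximalIdeal Cq ↔
      (maximalIdeal A).map (algebraMap A B) = maximalIdeal B := by
  rw [map_maximalIdeal_eq A B, ← Groth.L01.AnalUnram.completion_map_maximalIdeal B]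
  haveI : Module.FaithfullyFlat B Cq := Groth.L05.Henselization.faithfullyFlat_of_map_maximalIdeal B Cq
    (Groth.L01.AnalUnram.completion_map_maximalIdeal B)
  refine ⟨fun h => ?_, fun h => by rw [h]⟩
  have := congrArg (Ideal.comap (algebraMap B Cq)) h
  rwa [Ideal.comap_map_eq_self_of_faithfullyFlat, Ideal.comap_map_eq_self_of_faithfullyFlat] at this

theorem finite (hm : (maximalIdeal A).map (algebraMap A B) = maximalIdeal B)
    [Module.Finite (ResidueField A) (ResidueField B)] : Module.Finite Cp Cq := by
  haveI := isLocalHom_map A B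
  haveI := Groth.L01.AnalUnram.isNoetherianRing_completion A
  have hM : (maximalIdeal Cp).map (algebraMap Cp Cq) = maximalIdeal Cq := (map_eq_iff A B).mpr hm
  haveI : IsAdicComplete (maximalIdeal Cp) Cp := inferInstance
  haveI : IsAdicComplete ((maximalIdeal Cp).map (algebraMap Cp Cq)) Cq := by
    rw [hM]; infer_instance
  haveI : Module.Finite A (ResidueField B) := Module.Finite.trans (ResidueField A) (ResidueField B)
  haveI : Module.Finite Cp (Cq ⧸ (maximalIdeal Cp).map (algebraMap Cp Cq)) := by
    haveI : Module.Finite A (Cq ⧸ (maximalIdeal Cp).map (algebraMap Cp Cq)) := by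
      let f : ResidueField B →ₐ[A] Cq ⧸ (maximalIdeal Cp).map (algebraMap Cp Cq) :=
        Ideal.Quotient.liftₐ (maximalIdeal B)
          ((Ideal.Quotient.mkₐ A _).comp (IsScalarTower.toAlgHom A B Cq)) fun b hb => by
            show Ideal.Quotient.mk _ (algebraMap B Cq b) = 0
            rw [Ideal.Quotient.eq_zero_iff_mem, hM, ← Groth.L01.AnalUnram.completion_map_maximalIdeal B]
            exact Ideal.mem_map_of_mem _ hb
      refine Module.Finite.of_surjective f.toLinearMap fun y => ?_
      obtain ⟨x, rfl⟩ := Ideal.Quotient.mk_surjective y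
      obtain ⟨b, hb⟩ := exists_sub_mem B x
      exact ⟨residue B b, (Ideal.Quotient.eq.mpr (hM.ge hb)).symm⟩
    exact Module.Finite.of_restrictScalars_finite A Cp _
  exact Groth.L05.Rig.finite_of_finite_quotient (I := maximalIdeal Cp) Cq

theorem unramified_iff :
    ((maximalIdeal A).map (algebraMap A B) = maximalIdeal B ∧
        Module.Finite (ResidueField A) (ResidueField B) ∧
        Algebra.IsSeparable (ResidueField A) (ResidueField B)) ↔
      (Algebra.FiniteType Cp Cq ∧ Algebra.FormallyUnramified Cp Cq) := by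
  haveI := isLocalHom_map A B
  constructor
  · rintro ⟨hm, hf, hs⟩
    haveI := hf
    haveI := finite A B hm
    haveI := (separable_iff A B).mpr hs
    exact ⟨inferInstance, Algebra.FormallyUnramified.of_map_maximalIdeal ((map_eq_iff A B).mpr hm)⟩
  · rintro ⟨h₁, h₂⟩
    haveI := h₁
    haveI := h₂
    obtain ⟨hs, hm⟩ := Algebra.FormallyUnramified.iff_map_maximalIdeal_eq.mp h₂
    have hm' := (map_eq_iff A B).mp hm
    haveI := (separable_iff A B).mp hs
    haveI : Algebra.FormallyUnramified A B := Algebra.FormallyUnramified.of_map_maximalIdeal hm'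
    exact ⟨hm', inferInstance, inferInstance⟩

omit [Algebra.EssFiniteType A B] in
theorem flat_iff : Module.Flat Cp Cq ↔ Module.Flat A B := by
  have := Groth.Agent.S9231.result A B (algebraMap Cp Cq) (IsScalarTower.algebraMap_eq A Cp Cq).symm
  rwa [RingHom.flat_algebraMap_iff, RingHom.flat_algebraMap_iff] at this

theorem etale_iff :
    (Module.Flat A B ∧ (maximalIdeal A).map (algebraMap A B) = maximalIdeal B ∧
        Module.Finite (ResidueField A) (ResidueField B) ∧
        Algebra.IsSeparable (ResidueField A) (ResidueField B)) ↔ Algebra.Etale Cp Cq := by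
  haveI := Groth.L01.AnalUnram.isNoetherianRing_completion A
  constructor
  · rintro ⟨hfl, h⟩
    obtain ⟨h₁, h₂⟩ := (unramified_iff A B).mp h
    haveI := h₁
    haveI := h₂
    haveI := (flat_iff A B).mpr hfl
    haveI : Algebra.FinitePresentation Cp Cq := Algebra.FinitePresentation.of_finiteType.mp h₁
    exact Algebra.Etale.of_formallyUnramified_of_flat
  · intro h
    haveI := h
    haveI : Module.Flat Cp Cq := Algebra.Smooth.flat Cp Cq
    exact ⟨(flat_iff A B).mp ‹_›, (unramified_iff A B).mpr ⟨inferInstance, inferInstance⟩⟩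

theorem free_of_etale [Algebra.Etale Cp Cq] :
    ∃ n : ℕ, 0 < n ∧ Nonempty ((Fin n → Cp) ≃ₗ[Cp] Cq) := by
  obtain ⟨hfl, hm, hf, -⟩ := (etale_iff A B).mpr ‹_›
  haveI := hf
  haveI := finite A B hm
  haveI := (flat_iff A B).mpr hfl
  haveI := Groth.L01.AnalUnram.isNoetherianRing_completion A
  haveI : Module.Free Cp Cq := Module.free_of_flat_of_isLocalRing
  haveI : Module.Finite Cp Cq := finite A B hm
  refine ⟨Module.finrank Cp Cq, (Module.finrank_pos_iff_of_free Cp Cq).mpr inferInstance, ⟨(Module.finBasis Cp Cq).equivFun.symm⟩⟩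

end Groth.L05.CplUnr
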