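import Groth.Agent.L27.HenselClopen
import Mathlib.AlgebraicGeometry.Morphisms.QuasiFinite

/-!
# The finite part of a quasi-finite separated scheme over a Henselian base
-/

universe u

open CategoryTheory CategoryTheory.Limits AlgebraicGeometry Opposite

namespace Groth.L05.FinPart

/-- A quasi-finite separated scheme over a Henselian pair with finite reduction has a clopen finite part. -/
theorem exists_finite_part (A : Type u) [CommRing A] (I : Ideal A) [HenselianRing A I]
    {U : Scheme.{u}} (g : U ⟶ Spec (CommRingCat.of A)) [QuasiCompact g] [IsSeparated g] [LocallyQuasiFinite g]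
    [LocallyOfFiniteType g] (hfin : IsFinite (pullback.snd g (Spec.map (CommRingCat.ofHom (Ideal.Quotient.mk I))))) :
    ∃ W : U.Opens, IsClosed (W : Set U) ∧ IsFinite (W.ι ≫ g) ∧
      ∀ u : U, u ∉ W → ¬ I ≤ (g.base u : PrimeSpectrum A).asIdeal := by
  let ι := Spec.map (CommRingCat.ofHom (Ideal.Quotient.mk I))
  haveI : IsClosedImmersion ι := IsClosedImmersion.spec_of_surjective _ Ideal.Quotient.mk_surjective
  have ha := Groth.L27.ClopenLift.clopen_lift I
  obtain ⟨T, j, π, _, _, _, hjπ⟩ := Groth.Agent.S0385.result g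
  let k : Limits.pullback g ι ⟶ Limits.pullback π ι :=
    Limits.pullback.map g ι π ι j (𝟙 _) (𝟙 _) (by rw [hjπ, Category.comp_id]) (by simp)
  have hk : k ≫ Limits.pullback.snd π ι = Limits.pullback.snd g ι :=
    (Limits.pullback.lift_snd _ _ _).trans (Category.comp_id _)
  have hk1 : k ≫ Limits.pullback.fst π ι = Limits.pullback.fst g ι ≫ j := Limits.pullback.lift_fst _ _ _
  haveI : IsFinite (k ≫ Limits.pullback.snd π ι) := by rw [hk]; exact hfin
  haveI : IsFinite k := IsFinite.of_comp k (Limits.pullback.snd π ι)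
  have hV : IsClopen (Set.range k) :=
    ⟨k.isClosedMap.isClosed_range, k.isOpenEmbedding.isOpen_range⟩
  obtain ⟨C, ⟨hC, hCV⟩, -⟩ := ha T π inferInstance _ hV
  have hCj : C ⊆ Set.range j := by
    have hempty := Groth.L27.ClopenLift.closed_eq_empty ι ha
      (π.isClosedMap _ (hC.1.inter j.isOpenEmbedding.isOpen_range.isClosed_compl)) (by
        rw [Set.disjoint_left]
        rintro _ ⟨x, rfl⟩ ⟨z, ⟨hzC, hzj⟩, hz⟩
        obtain ⟨w, hw, -⟩ := Scheme.Pullback.exists_preimage_pullback (f := π) (g := ι) z x hz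
        have hwV : w ∈ Set.range k := by
          rw [← hCV]
          show Limits.pullback.fst π ι w ∈ C
          rw [hw]; exact hzC
        obtain ⟨s, rfl⟩ := hwV
        refine hzj ⟨Limits.pullback.fst g ι s, ?_⟩
        rw [← hw, ← Scheme.Hom.comp_apply, ← Scheme.Hom.comp_apply, hk1])
    intro z hz
    by_contra hzj
    exact Set.eq_empty_iff_forall_notMem.mp hempty _ ⟨z, ⟨hz, hzj⟩, rfl⟩
  let W : U.Opens := ⟨j ⁻¹' C, hC.2.preimage j.continuous⟩
  refine ⟨W, hC.1.preimage j.continuous, ?_, fun u hu hI => hu ?_⟩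
  · haveI : IsClosedImmersion (W.ι ≫ j) := IsClosedImmersion.of_isPreimmersion _ (by
      have : Set.range (W.ι ≫ j) = C := by
        rw [Scheme.Hom.comp_base, TopCat.coe_comp, Set.range_comp, Scheme.Opens.range_ι]
        exact Set.image_preimage_eq_of_subset hCj
      rw [this]; exact hC.1)
    rw [← hjπ, ← Category.assoc]
    exact MorphismProperty.comp_mem _ _ _ inferInstance inferInstance
  · obtain ⟨x, hx⟩ : g u ∈ Set.range ι := by
      show g u ∈ Set.range (PrimeSpectrum.comap (Ideal.Quotient.mk I))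
      rw [range_comap_of_surjective _ _ Ideal.Quotient.mk_surjective, Ideal.mk_ker]
      exact hI
    obtain ⟨s, hs, -⟩ := Scheme.Pullback.exists_preimage_pullback (f := g) (g := ι) u x hx.symm
    have h1 : Limits.pullback.fst π ι (k s) ∈ C := hCV.ge ⟨s, rfl⟩
    rw [← Scheme.Hom.comp_apply, hk1, Scheme.Hom.comp_apply, hs] at h1
    exact h1


/-- An open subset containing the closed fibre of a closed morphism to a local scheme is everything. -/
theorem eq_univ_of_closedFibre {R : Type u} [CommRing R] [IsLocalRing R] {Z : Scheme.{u}}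
    (p : Z ⟶ Spec (CommRingCat.of R)) (hp : IsClosedMap p.base) {V : Set ↥Z} (hV : IsOpen V)
    (h : ∀ z : ↥Z, p.base z = IsLocalRing.closedPoint R → z ∈ V) : V = Set.univ := by
  refine Set.eq_univ_of_forall fun z => by_contra fun hz => ?_
  obtain ⟨w, hw, hw'⟩ : IsLocalRing.closedPoint R ∈ p.base '' Vᶜ :=
    (IsLocalRing.specializes_closedPoint (p.base z)).mem_closed (hp _ hV.isClosed_compl) ⟨z, hz, rfl⟩
  exact hw (h w hw')

/-- A finite piece is contained in every open set containing its closed fibre. -/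
theorem subset_of_closedFibre {R : Type u} [CommRing R] [IsLocalRing R] {X : Scheme.{u}}
    (f : X ⟶ Spec (CommRingCat.of R)) (W : X.Opens) (hW : IsFinite (W.ι ≫ f)) {V : Set ↥X} (hV : IsOpen V)
    (h : ∀ x ∈ W, f.base x = IsLocalRing.closedPoint R → x ∈ V) : (W : Set ↥X) ⊆ V := by
  intro x hx
  haveI := hW
  have := eq_univ_of_closedFibre (W.ι ≫ f) (W.ι ≫ f).isClosedMap (hV.preimage W.ι.continuous)
    (fun z hz => h _ z.2 hz)
  exact this.ge (Set.mem_univ (⟨x, hx⟩ : W.toScheme))

end Groth.L05.FinPart
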