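import Groth.Agent.L05.Hfp.Finite
import Groth.Agent.L23.EtaleLift
import Mathlib.RingTheory.Localization.Away.Lemmas
import Mathlib.RingTheory.Etale.Basic

/-!
# Finite etale algebras lift over henselian pairs
-/

set_option autoImplicit false

universe u

namespace Groth.L05

theorem exists_finite_etale_lift {A : Type u} [CommRing A] (I : Ideal A) [HenselianRing A I]
    (C : Type u) [CommRing C] [Algebra A C] [Algebra (A ⧸ I) C] [IsScalarTower A (A ⧸ I) C]
    [Module.Finite (A ⧸ I) C] [Algebra.Etale (A ⧸ I) C] :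
    ∃ (B : Type u) (_ : CommRing B) (_ : Algebra A B) (θ : B →ₐ[A] C), Module.Finite A B ∧
      Algebra.Etale A B ∧ Function.Surjective θ ∧ RingHom.ker θ = I.map (algebraMap A B) := by
  obtain ⟨D, _, _, ψ, _, hψ, hker⟩ := Groth.L23.exists_etale_lift (P := A) (B := A ⧸ I) (C := C)
    Ideal.Quotient.mk_surjective
  rw [Ideal.Quotient.algebraMap_eq, Ideal.mk_ker] at hker
  haveI : Module.Finite A C := Module.Finite.trans (A ⧸ I) C
  let eD : (D ⧸ I.map (algebraMap A D)) ≃ₐ[A] C :=
    (Ideal.quotientEquivAlgOfEq A hker.symm).trans (Ideal.quotientKerAlgEquivOfSurjective (f := ψ) hψ)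
  haveI : Module.Finite A (D ⧸ I.map (algebraMap A D)) := Module.Finite.equiv eD.symm.toLinearEquiv
  obtain ⟨e, he, heI, hfin⟩ := Groth.L05.Hfp.exists_idem_finite_of_quotient_finite I (R := D)
  let K : Ideal D := Ideal.span ({1 - e} : Set D)
  haveI : IsLocalization.Away e (D ⧸ K) :=
    IsLocalization.Away.quotient_of_isIdempotentElem he
  haveI : Algebra.Etale D (D ⧸ K) := Algebra.Etale.of_isLocalizationAway e
  haveI : Algebra.Etale A (D ⧸ K) := Algebra.Etale.comp A D (D ⧸ K)
  have hK : K ≤ RingHom.ker ψ := by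
    rw [hker, Ideal.span_le, Set.singleton_subset_iff, SetLike.mem_coe, ← neg_sub]
    exact neg_mem heI
  let θ : (D ⧸ K) →ₐ[A] C := Ideal.Quotient.liftₐ K ψ fun x hx => hK hx
  refine ⟨D ⧸ K, inferInstance, inferInstance, θ, hfin, inferInstance, fun c => ?_, ?_⟩
  · obtain ⟨x, rfl⟩ := hψ c
    exact ⟨Ideal.Quotient.mk K x, rfl⟩
  · rw [IsScalarTower.algebraMap_eq A D (D ⧸ K), ← Ideal.map_map, Ideal.Quotient.algebraMap_eq, ← hker]
    refine le_antisymm (fun z hz => ?_) (Ideal.map_le_iff_le_comap.mpr fun x hx => hx)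
    obtain ⟨x, rfl⟩ := Ideal.Quotient.mk_surjective z
    exact Ideal.mem_map_of_mem _ hz

theorem nonempty_tensor_equiv {A B C : Type u} [CommRing A] [CommRing B] [CommRing C] [Algebra A B]
    [Algebra A C] (I : Ideal A) [Algebra (A ⧸ I) C] [IsScalarTower A (A ⧸ I) C] (θ : B →ₐ[A] C)
    (hθ : Function.Surjective θ) (hk : RingHom.ker θ = I.map (algebraMap A B)) :
    Nonempty (TensorProduct A (A ⧸ I) B ≃ₐ[A ⧸ I] C) :=
  ⟨AlgEquiv.extendScalarsOfSurjective (R := A) (S := A ⧸ I) Ideal.Quotient.mk_surjective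
    (((Algebra.TensorProduct.quotIdealMapEquivQuotTensor B I).restrictScalars A).symm.trans
      ((Ideal.quotientEquivAlgOfEq A hk.symm).trans
        (Ideal.quotientKerAlgEquivOfSurjective (f := θ) hθ)))⟩

end Groth.L05
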