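import Groth.Agent.L05.Hensel.Pairs
import Mathlib.RingTheory.Smooth.StandardSmoothOfFree
import Mathlib.LinearAlgebra.Matrix.Determinant.Basic

/-!
Square systems of polynomial equations over henselian pairs.
-/

set_option autoImplicit false

open MvPolynomial

namespace Groth.L05

universe u

variable {A : Type u} [CommRing A] {σ : Type}

theorem aeval_apply_eq_eval (d : σ → A) (p : MvPolynomial σ A) : aeval d p = eval d p :=
  RingHom.congr_fun (coe_aeval_eq_eval d) p

/-- The presentation of `A[X] ⧸ (g)` by a square system. -/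
noncomputable def squarePresentation (g : σ → MvPolynomial σ A) :
    Algebra.PreSubmersivePresentation A (MvPolynomial σ A ⧸ Ideal.span (Set.range g)) σ σ where
  toPresentation := Algebra.Presentation.naive (v := g)
  map := id
  map_inj := Function.injective_id

theorem squarePresentation_jacobian [Fintype σ] [DecidableEq σ] (g : σ → MvPolynomial σ A) :
    (squarePresentation g).jacobian =
      Ideal.Quotient.mk (Ideal.span (Set.range g)) (Matrix.of fun i j => pderiv i (g j)).det := by
  rw [(squarePresentation g).jacobian_eq_jacobiMatrix_det]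
  rw [Algebra.Generators.algebraMap_apply]
  have hmat : (squarePresentation g).jacobiMatrix = Matrix.of fun i j => pderiv i (g j) := by
    ext i j : 1
    rw [Algebra.PreSubmersivePresentation.jacobiMatrix_apply]
    rfl
  rw [hmat]
  have : (aeval (squarePresentation g).val : MvPolynomial σ A →ₐ[A] _) =
      Ideal.Quotient.mkₐ A _ := by
    refine MvPolynomial.algHom_ext fun i => ?_
    rw [aeval_X]
    rfl
  rw [this]
  rfl

theorem awayLift_algebraMap {R L P : Type*} [CommRing R] [CommRing L] [CommRing P] [Algebra A R]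
    [Algebra A L] [Algebra A P] [Algebra R L] [IsScalarTower A R L] (x : R)
    [IsLocalization.Away x L] (f : R →ₐ[A] P) (hf : IsUnit (f x)) (r : R) :
    (IsLocalization.Away.liftAlgHom x hf : L →ₐ[A] P) (algebraMap R L r) = f r :=
  IsLocalization.Away.lift_eq x (g := f.toRingHom) hf r

theorem etale_away_squarePresentation [Fintype σ] [DecidableEq σ] (g : σ → MvPolynomial σ A) :
    Algebra.Etale A (Localization.Away (squarePresentation g).jacobian) := by
  let Δ := (squarePresentation g).jacobian
  have hΔ : IsUnit (algebraMap _ (Localization.Away Δ) Δ) :=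
    IsLocalization.Away.algebraMap_isUnit _
  let P : Algebra.SubmersivePresentation A (Localization.Away Δ) _ _ :=
    { toPreSubmersivePresentation :=
        .comp (.localizationAway (Localization.Away Δ) Δ) (squarePresentation g),
      jacobian_isUnit := by simpa [Algebra.smul_def, -isUnit_map_iff, Δ] using hΔ }
  have : Algebra.IsStandardSmoothOfRelativeDimension 0 A (Localization.Away Δ) :=
    ⟨_, _, _, inferInstance, P, by
      simp only [Algebra.PreSubmersivePresentation.dimension_comp_eq_dimension_add_dimension, P]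
      simp [Algebra.Presentation.dimension]⟩
  infer_instance

/-- A solution modulo `I` of a square system with invertible jacobian lifts along a henselian
pair. -/
theorem exists_zero_of_jacobian [Fintype σ] [DecidableEq σ] (I : Ideal A) [HenselianRing A I]
    (g : σ → MvPolynomial σ A) (a : σ → A) (h0 : ∀ j, eval a (g j) ∈ I)
    (hdet : IsUnit (Ideal.Quotient.mk I (eval a (Matrix.of fun i j => pderiv i (g j)).det))) :
    ∃ b : σ → A, (∀ i, b i - a i ∈ I) ∧ ∀ j, eval b (g j) = 0 := by
  let S := MvPolynomial σ A ⧸ Ideal.span (Set.range g)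
  let ā : MvPolynomial σ A →ₐ[A] A ⧸ I := (Ideal.Quotient.mkₐ A I).comp (aeval a)
  let ρ : S →ₐ[A] A ⧸ I := Ideal.Quotient.liftₐ _ ā (by
    show Ideal.span (Set.range g) ≤ RingHom.ker ā
    rw [Ideal.span_le]
    rintro _ ⟨j, rfl⟩
    show ā (g j) = 0
    simp only [ā, AlgHom.comp_apply, Ideal.Quotient.mkₐ_eq_mk, aeval_apply_eq_eval]
    exact Ideal.Quotient.eq_zero_iff_mem.mpr (h0 j))
  have hρ : IsUnit (ρ (squarePresentation g).jacobian) := by
    rw [squarePresentation_jacobian]
    show IsUnit (ā _)
    simpa [ā, aeval_apply_eq_eval] using hdet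
  have := etale_away_squarePresentation g
  obtain ⟨τ, hτ⟩ := exists_algHom_lift I
    (IsLocalization.Away.liftAlgHom (S := Localization.Away (squarePresentation g).jacobian)
      (squarePresentation g).jacobian (f := ρ) hρ)
  let π : MvPolynomial σ A →ₐ[A] A :=
    τ.comp ((IsScalarTower.toAlgHom A S _).comp (Ideal.Quotient.mkₐ A _))
  have hπ : ∀ p, eval (fun i => π (X i)) p = π p := by
    intro p
    rw [← coe_aeval_eq_eval]
    exact (DFunLike.congr_fun (aeval_unique π) p).symm
  refine ⟨fun i => π (X i), fun i => ?_, fun j => ?_⟩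
  · rw [← Ideal.Quotient.eq]
    have := DFunLike.congr_fun hτ (algebraMap S _ (Ideal.Quotient.mk _ (X i)))
    refine (this.trans (awayLift_algebraMap _ ρ hρ _)).trans ?_
    show Ideal.Quotient.mk I (aeval a (X i)) = _
    rw [aeval_X]
  · rw [hπ]
    show τ (algebraMap S _ (Ideal.Quotient.mk _ (g j))) = 0
    rw [Ideal.Quotient.eq_zero_iff_mem.mpr (Ideal.subset_span (Set.mem_range_self j)), map_zero,
      map_zero]

/-- The lift of a solution modulo `I` is unique. -/
theorem zero_unique_of_jacobian [Fintype σ] [DecidableEq σ] (I : Ideal A) (hI : I ≤ Ideal.jacobson ⊥)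
    (g : σ → MvPolynomial σ A) (a : σ → A)
    (hdet : IsUnit (Ideal.Quotient.mk I (eval a (Matrix.of fun i j => pderiv i (g j)).det)))
    (b c : σ → A) (hb : ∀ i, b i - a i ∈ I) (hc : ∀ i, c i - a i ∈ I)
    (hgb : ∀ j, eval b (g j) = 0) (hgc : ∀ j, eval c (g j) = 0) : b = c := by
  let S := MvPolynomial σ A ⧸ Ideal.span (Set.range g)
  let mkS : ∀ d : σ → A, (∀ j, eval d (g j) = 0) → (S →ₐ[A] A) := fun d hd =>
    Ideal.Quotient.liftₐ _ (aeval d) (by
      show Ideal.span (Set.range g) ≤ RingHom.ker (aeval d : MvPolynomial σ A →ₐ[A] A)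
      rw [Ideal.span_le]
      rintro _ ⟨j, rfl⟩
      show aeval d (g j) = 0
      rw [aeval_apply_eq_eval]
      exact hd j)
  have hev : ∀ (d : σ → A), (∀ i, d i - a i ∈ I) → ∀ p : MvPolynomial σ A,
      Ideal.Quotient.mk I (eval d p) = Ideal.Quotient.mk I (eval a p) := by
    intro d hd p
    induction p using MvPolynomial.induction_on with
    | C r => simp
    | add p q hp hq => simp [hp, hq]
    | mul_X p i hp => simp [hp, Ideal.Quotient.eq.mpr (hd i)]
  have hu : ∀ d hd, (∀ i, d i - a i ∈ I) → IsUnit (mkS d hd (squarePresentation g).jacobian) := by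
    intro d hd hda
    rw [squarePresentation_jacobian]
    show IsUnit (aeval d _)
    rw [aeval_apply_eq_eval]
    exact isUnit_of_isUnit_mk hI (by rw [hev d hda]; exact hdet)
  have := etale_away_squarePresentation g
  let L := Localization.Away (squarePresentation g).jacobian
  let fb : L →ₐ[A] A := IsLocalization.Away.liftAlgHom _ (f := mkS b hgb) (hu b hgb hb)
  let fc : L →ₐ[A] A := IsLocalization.Away.liftAlgHom _ (f := mkS c hgc) (hu c hgc hc)
  have heq : fb = fc := by
    have h1 : (Ideal.Quotient.mkₐ A I).comp fb = (Ideal.Quotient.mkₐ A I).comp fc := by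
      apply IsLocalization.algHom_ext (.powers (squarePresentation g).jacobian)
      refine Ideal.Quotient.algHom_ext _ (MvPolynomial.algHom_ext fun i => ?_)
      show Ideal.Quotient.mk I (fb (algebraMap S L (Ideal.Quotient.mk _ (X i)))) =
        Ideal.Quotient.mk I (fc (algebraMap S L (Ideal.Quotient.mk _ (X i))))
      rw [awayLift_algebraMap, awayLift_algebraMap]
      show Ideal.Quotient.mk I (aeval b (X i)) = Ideal.Quotient.mk I (aeval c (X i))
      rw [aeval_X, aeval_X, Ideal.Quotient.eq.mpr (hb i), Ideal.Quotient.eq.mpr (hc i)]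
    exact algHom_eq_of_sub_mem hI fb fc fun x =>
      Ideal.Quotient.eq.mp (DFunLike.congr_fun h1 x)
  funext i
  have := DFunLike.congr_fun heq (algebraMap S L (Ideal.Quotient.mk _ (X i)))
  rw [awayLift_algebraMap, awayLift_algebraMap] at this
  change aeval b (X i) = aeval c (X i) at this
  simpa using this

end Groth.L05
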