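import Groth.Agent.L05.Hensel.Split
import Mathlib.RingTheory.Etale.StandardEtale

/-!
Henselian pairs: lifting of sections of étale algebras, and uniqueness of such lifts.
-/

set_option autoImplicit false

open Polynomial

namespace Groth.L05

universe u v w

variable {A : Type u} [CommRing A] {I : Ideal A}

/-- An idempotent modulo `IS` cutting out a cyclic piece lifts to an idempotent cutting out a
cyclic piece. -/
theorem exists_idem_cyclic (h : GabberRoots I) {S : Type v} [CommRing S] [Algebra A S]
    [Algebra.FiniteType A S] (ε : S) (hε : ε * ε - ε ∈ I.map (algebraMap A S))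
    (hqf : ∀ p : Ideal S, ∀ [p.IsPrime], I.map (algebraMap A S) ≤ p → ε ∉ p →
      Algebra.QuasiFiniteAt A p)
    (hcyc : ∀ x : S, ∃ a : A, x * ε - algebraMap A S a * ε ∈ I.map (algebraMap A S)) :
    ∃ e : S, IsIdempotentElem e ∧ e - ε ∈ I.map (algebraMap A S) ∧
      ∀ x : S, ∃ a : A, e * x = algebraMap A S a * e := by
  have hint : ∀ x : S, IsIntegral A
      (Ideal.Quotient.mk (I.map (algebraMap A S) ⊔ Ideal.span {1 - ε}) x) := by
    intro x
    obtain ⟨a, ha⟩ := hcyc x
    have : Ideal.Quotient.mk (I.map (algebraMap A S) ⊔ Ideal.span {1 - ε}) x =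
        algebraMap A _ a := by
      rw [IsScalarTower.algebraMap_apply A S, Ideal.Quotient.algebraMap_eq, Ideal.Quotient.eq,
        show x - algebraMap A S a =
          (x * ε - algebraMap A S a * ε) + (x - algebraMap A S a) * (1 - ε) by ring]
      exact add_mem (Ideal.mem_sup_left ha)
        (Ideal.mem_sup_right (Ideal.mul_mem_left _ _ (Ideal.subset_span rfl)))
    rw [this]
    exact isIntegral_algebraMap
  obtain ⟨C, t, v, hC, htC, ht, hvt, hvv, hvε, hpush⟩ := exists_prelift I ε hε hqf hint
  have hfin : Module.Finite A C := ⟨(Submodule.fg_top _).mpr hC⟩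
  set JC := I.map (algebraMap A C)
  have hcycC : ∀ y : C, ∃ a : A, y * v - algebraMap A C a * v ∈ JC := by
    intro y
    obtain ⟨a, ha⟩ := hcyc y
    refine ⟨a, ?_⟩
    have hmem : ((y * v - algebraMap A C a * v : C) : S) ∈ I.map (algebraMap A S) := by
      push_cast
      rw [show (y : S) * v - algebraMap A S a * v = ((y : S) * ε - algebraMap A S a * ε) +
        ((y : S) - algebraMap A S a) * ((v : S) - ε) by ring]
      exact add_mem ha (Ideal.mul_mem_left _ _ hvε)
    rw [show y * v - algebraMap A C a * v =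
      v * (y * v - algebraMap A C a * v) - (y - algebraMap A C a) * (v * v - v) by ring]
    exact sub_mem (hpush _ hmem) (Ideal.mul_mem_left _ _ hvv)
  obtain ⟨e, he, hev⟩ := exists_idem_rankOne h v hvv hcycC
  have heS : IsIdempotentElem (e : S) := he.map C.val
  have heε : (e : S) - ε ∈ I.map (algebraMap A S) := by
    rw [show (e : S) - ε = ((e - v : C) : S) + ((v : S) - ε) by push_cast; ring]
    refine add_mem ?_ hvε
    have := Ideal.mem_map_of_mem C.val hev
    rwa [show JC.map C.val = I.map (algebraMap A S) by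
      simp only [JC]; exact (Ideal.map_map (algebraMap A C) (C.val : C →+* S)).trans
        (congrArg (Ideal.map · I) (RingHom.ext fun a => rfl))] at this
  refine ⟨e, heS, heε, ?_⟩
  let ψ : S →ₗ[A] S := LinearMap.mulLeft A (e : S)
  have hM : LinearMap.range ψ = C.toSubmodule.map ψ := by
    refine le_antisymm ?_ LinearMap.map_le_range
    rintro _ ⟨x, rfl⟩
    exact ⟨(e : S) * x, idem_piece_le h.1 hC htC ht hvt he hev x,
      by simp [ψ, ← mul_assoc, heS.eq]⟩
  have hfg : (LinearMap.range ψ).FG := hM ▸ hC.map ψ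
  have hle : LinearMap.range ψ ≤ Submodule.span A {(e : S)} := by
    refine Submodule.le_of_le_smul_of_le_jacobson_bot hfg h.1 ?_
    rintro _ ⟨x, rfl⟩
    obtain ⟨a, ha⟩ := hcyc x
    have hz : (e : S) * x - algebraMap A S a * e ∈ I.map (algebraMap A S) := by
      rw [show (e : S) * x - algebraMap A S a * e =
        (x * ε - algebraMap A S a * ε) + (x - algebraMap A S a) * ((e : S) - ε) by ring]
      exact add_mem ha (Ideal.mul_mem_left _ _ heε)
    refine Submodule.mem_sup.mpr ⟨a • (e : S), Submodule.smul_mem _ _ (Submodule.subset_span rfl),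
      ψ ((e : S) * x - algebraMap A S a * e), ?_, ?_⟩
    · rw [← Submodule.map_top, ← Submodule.map_smul'', Ideal.smul_top_eq_map]
      exact Submodule.mem_map_of_mem hz
    · simp only [ψ, LinearMap.mulLeft_apply, Algebra.smul_def, mul_sub, ← mul_assoc, heS.eq]
      linear_combination (-(algebraMap A S a)) * heS.eq
  intro x
  obtain ⟨a, ha⟩ := Submodule.mem_span_singleton.mp (hle ⟨x, rfl⟩)
  exact ⟨a, by rw [← Algebra.smul_def]; exact ha.symm⟩

/-- A section modulo `I` of a formally unramified algebra of finite type is cut out by an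
idempotent modulo `IS`. -/
theorem exists_idem_of_section {S : Type v} [CommRing S] [Algebra A S]
    [Algebra.FiniteType A S] [Algebra.FormallyUnramified A S] (σ : S →ₐ[A] A ⧸ I) :
    ∃ ε : S, ε * ε - ε ∈ I.map (algebraMap A S) ∧ σ ε = 1 ∧
      ∀ x : S, σ x = 0 → x * ε ∈ I.map (algebraMap A S) := by
  classical
  obtain ⟨s, hs⟩ := Algebra.FiniteType.out (R := A) (A := S)
  choose a ha using fun x : S => Ideal.Quotient.mk_surjective (σ x)
  set J := I.map (algebraMap A S)
  set K := RingHom.ker (σ : S →+* A ⧸ I)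
  have hJK : J ≤ K := by
    rw [Ideal.map_le_iff_le_comap]
    intro i hi
    simp [K, Ideal.Quotient.eq_zero_iff_mem.mpr hi]
  set L := Ideal.span ((fun g => g - algebraMap A S (a g)) '' (s : Set S))
  have hLK : L ≤ K := by
    rw [Ideal.span_le]
    rintro _ ⟨g, -, rfl⟩
    simp [K, ha]
  have hgen : ∀ x : S, x - algebraMap A S (a x) ∈ L ⊔ J := by
    suffices ∀ x : S, ∃ b : A, x - algebraMap A S b ∈ L ⊔ J by
      intro x
      obtain ⟨b, hb⟩ := this x
      have h0 : σ (x - algebraMap A S b) = 0 := (sup_le hLK hJK) hb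
      rw [map_sub, σ.commutes, ← ha x, Ideal.Quotient.algebraMap_eq, ← map_sub,
        Ideal.Quotient.eq_zero_iff_mem] at h0
      have hmem : algebraMap A S (a x - b) ∈ L ⊔ J :=
        Ideal.mem_sup_right (Ideal.mem_map_of_mem _ h0)
      have := sub_mem hb hmem
      rwa [map_sub, sub_sub, add_sub_cancel] at this
    intro x
    have hx : x ∈ Algebra.adjoin A (s : Set S) := hs ▸ Algebra.mem_top
    induction hx using Algebra.adjoin_induction with
    | mem g hg => exact ⟨a g, Ideal.mem_sup_left (Ideal.subset_span ⟨g, hg, rfl⟩)⟩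
    | algebraMap r => exact ⟨r, by simp⟩
    | add y z _ _ hy hz =>
      obtain ⟨b, hb⟩ := hy; obtain ⟨c, hc⟩ := hz
      exact ⟨b + c, by rw [map_add, add_sub_add_comm]; exact add_mem hb hc⟩
    | mul y z _ _ hy hz =>
      obtain ⟨b, hb⟩ := hy; obtain ⟨c, hc⟩ := hz
      refine ⟨b * c, ?_⟩
      rw [map_mul, show y * z - algebraMap A S b * algebraMap A S c =
        (y - algebraMap A S b) * z + algebraMap A S b * (z - algebraMap A S c) by ring]
      exact add_mem (Ideal.mul_mem_right _ _ hb) (Ideal.mul_mem_left _ _ hc)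
  have hK : K ≤ L ⊔ J := by
    intro x hx
    have hax : a x ∈ I := by
      rw [← Ideal.Quotient.eq_zero_iff_mem, ha x]; exact hx
    have := add_mem (hgen x) (Ideal.mem_sup_right (Ideal.mem_map_of_mem (algebraMap A S) hax))
    rwa [sub_add_cancel] at this
  have hunr : K ≤ K * K ⊔ J := by
    intro x hx
    let f : S →+* S ⧸ (K * K ⊔ J) := Ideal.Quotient.mk _
    let g₁ : S →ₐ[A] S ⧸ (K * K ⊔ J) := Ideal.Quotient.mkₐ A _
    let g₂ : S →ₐ[A] S ⧸ (K * K ⊔ J) :=
      (Ideal.Quotient.liftₐ I (Algebra.ofId A _) (fun i hi => by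
        rw [Algebra.ofId_apply, IsScalarTower.algebraMap_apply A S, Ideal.Quotient.algebraMap_eq,
          Ideal.Quotient.eq_zero_iff_mem]
        exact Ideal.mem_sup_right (Ideal.mem_map_of_mem _ hi))).comp σ
    have heq : g₁ = g₂ := by
      refine Algebra.FormallyUnramified.ext (I := K.map f) ⟨2, ?_⟩ fun y => ?_
      · rw [← Ideal.map_pow, pow_two, Ideal.zero_eq_bot, Ideal.map_eq_bot_iff_le_ker,
          Ideal.mk_ker]
        exact le_sup_left
      · rw [Ideal.Quotient.eq]
        have : g₂ y = f (algebraMap A S (a y)) := by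
          simp only [g₂, AlgHom.comp_apply, ← ha y]
          rfl
        rw [this]
        show f y - f _ ∈ _
        rw [← map_sub]
        refine Ideal.mem_map_of_mem _ ?_
        exact (sup_le hLK hJK) (hgen y)
    have h0 := DFunLike.congr_fun heq x
    rw [← Ideal.Quotient.eq_zero_iff_mem]
    change f x = 0
    have hσ : σ x = 0 := hx
    simpa [g₁, g₂, hσ] using h0
  have hfg : (L.map (Ideal.Quotient.mk J)).FG :=
    Ideal.FG.map (Submodule.fg_span (Set.Finite.image _ s.finite_toSet)) _
  have hKL : K.map (Ideal.Quotient.mk J) = L.map (Ideal.Quotient.mk J) := by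
    refine le_antisymm ?_ (Ideal.map_mono hLK)
    refine (Ideal.map_mono hK).trans ?_
    simp [Ideal.map_sup, Ideal.map_quotient_self]
  have hidem : IsIdempotentElem (K.map (Ideal.Quotient.mk J)) := by
    refine le_antisymm Ideal.mul_le_left ?_
    refine (Ideal.map_mono hunr).trans ?_
    simp [Ideal.map_sup, Ideal.map_mul, Ideal.map_quotient_self]
  obtain ⟨η, hη, hηK⟩ := (Ideal.isIdempotentElem_iff_of_fg _ (hKL ▸ hfg)).mp hidem
  obtain ⟨η', rfl⟩ := Ideal.Quotient.mk_surjective η
  refine ⟨1 - η', ?_, ?_, fun x hx => ?_⟩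
  · rw [show (1 - η') * (1 - η') - (1 - η') = η' * η' - η' by ring, ← Ideal.Quotient.eq,
      map_mul]
    exact hη
  · have : Ideal.Quotient.mk J η' ∈ K.map (Ideal.Quotient.mk J) := by
      rw [hηK]; exact Ideal.mem_span_singleton_self _
    obtain ⟨k, hk, hk'⟩ := (Ideal.mem_map_iff_of_surjective _ Ideal.Quotient.mk_surjective).mp this
    have h0 : η' ∈ K := by
      have := sub_mem hk (hJK (Ideal.Quotient.eq.mp hk'))
      rwa [sub_sub_cancel] at this
    have h0' : σ η' = 0 := h0
    rw [map_sub, map_one, h0', sub_zero]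
  · have : Ideal.Quotient.mk J x ∈ K.map (Ideal.Quotient.mk J) := Ideal.mem_map_of_mem _ hx
    rw [hηK, Ideal.submodule_span_eq, Ideal.mem_span_singleton'] at this
    obtain ⟨c, hc⟩ := this
    rw [← Ideal.Quotient.eq_zero_iff_mem, map_mul, map_sub, map_one, ← hc, mul_sub, mul_one,
      mul_assoc, hη.eq, sub_self]

/-- An idempotent piece of an étale algebra which is cyclic gives a section. -/
theorem exists_section_of_idem (hI : I ≤ Ideal.jacobson ⊥) {S : Type v} [CommRing S]
    [Algebra A S] [Algebra.Etale A S] (σ : S →ₐ[A] A ⧸ I) {e : S} (he : IsIdempotentElem e)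
    (hσe : σ e = 1) (hcyc' : ∀ x : S, ∃ a : A, e * x = algebraMap A S a * e) :
    ∃ τ : S →ₐ[A] A, (Ideal.Quotient.mkₐ A I).comp τ = σ := by
  let P := Localization.Away e
  have hesc : algebraMap S P e = 1 := by
    refine (IsLocalization.Away.algebraMap_isUnit e).mul_left_cancel ?_
    rw [mul_one, ← map_mul, he.eq]
  have hsurj : Function.Surjective (algebraMap A P) := by
    intro p
    obtain ⟨x, rfl⟩ := IsLocalization.Away.algebraMap_surjective_of_isIdempotentElem e he p
    obtain ⟨a, ha⟩ := hcyc' x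
    refine ⟨a, ?_⟩
    have := congrArg (algebraMap S P) ha
    rw [map_mul, map_mul, hesc, one_mul, mul_one] at this
    rw [this, IsScalarTower.algebraMap_apply A S P]
  let σP : P →ₐ[A] A ⧸ I := IsLocalization.Away.liftAlgHom e (f := σ) (hσe ▸ isUnit_one)
  have hker' : RingHom.ker (algebraMap A P) = ⊥ := by
    have : Algebra.Etale A P := inferInstance
    have hid : IsIdempotentElem (RingHom.ker (algebraMap A P)) :=
      (Algebra.FormallyEtale.iff_of_surjective hsurj).mp inferInstance
    have hfg : (RingHom.ker (algebraMap A P)).FG :=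
      Algebra.FinitePresentation.ker_fG_of_surjective (Algebra.ofId A P) hsurj
    obtain ⟨d, hd, hd'⟩ := (Ideal.isIdempotentElem_iff_of_fg _ hfg).mp hid
    have hdI : d ∈ I := by
      rw [← Ideal.Quotient.eq_zero_iff_mem]
      have : algebraMap A P d = 0 := by
        rw [← RingHom.mem_ker, hd']; exact Ideal.mem_span_singleton_self d
      have := congrArg σP this
      rwa [σP.commutes, map_zero] at this
    rw [hd', idem_eq_zero_of_mem_jacobson hd (hI hdI)]
    simp
  let E : A ≃ₐ[A] P := AlgEquiv.ofBijective (Algebra.ofId A P)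
    ⟨(RingHom.injective_iff_ker_eq_bot _).mpr hker', hsurj⟩
  refine ⟨E.symm.toAlgHom.comp (IsScalarTower.toAlgHom A S P), AlgHom.ext fun x => ?_⟩
  have h1 : algebraMap A P (E.symm (algebraMap S P x)) = algebraMap S P x :=
    E.apply_symm_apply _
  have h2 := congrArg σP h1
  rw [σP.commutes] at h2
  refine h2.trans ?_
  simp [σP]

/-- Lifting of a section modulo `I` of an étale algebra. -/
theorem exists_algHom_lift_of_gabberRoots (h : GabberRoots I) {S : Type v} [CommRing S]
    [Algebra A S] [Algebra.Etale A S] (σ : S →ₐ[A] A ⧸ I) :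
    ∃ τ : S →ₐ[A] A, (Ideal.Quotient.mkₐ A I).comp τ = σ := by
  obtain ⟨ε, hε, hσε, hker⟩ := exists_idem_of_section σ
  have hcyc : ∀ x : S, ∃ a : A, x * ε - algebraMap A S a * ε ∈ I.map (algebraMap A S) := by
    intro x
    obtain ⟨a, ha⟩ := Ideal.Quotient.mk_surjective (σ x)
    exact ⟨a, by rw [← sub_mul]; exact hker _ (by simp [← ha])⟩
  obtain ⟨e, he, heε, hcyc'⟩ := exists_idem_cyclic h ε hε (fun p _ _ _ => inferInstance) hcyc
  have hσe : σ e = 1 := by
    have hle : I.map (algebraMap A S) ≤ RingHom.ker (σ : S →+* A ⧸ I) := by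
      rw [Ideal.map_le_iff_le_comap]
      intro i hi
      simp [Ideal.Quotient.eq_zero_iff_mem.mpr hi]
    have : σ (e - ε) = 0 := hle heε
    rwa [map_sub, hσε, sub_eq_zero] at this
  exact exists_section_of_idem h.1 σ he hσe hcyc'

/-- Maps out of an unramified algebra agreeing modulo an ideal in the Jacobson radical are equal. -/
theorem algHom_eq_of_sub_mem {S : Type v} [CommRing S] [Algebra A S]
    [Algebra.EssFiniteType A S] [Algebra.FormallyUnramified A S] {B : Type w} [CommRing B]
    [Algebra A B] {J : Ideal B} (hJ : J ≤ Ideal.jacobson ⊥) (f g : S →ₐ[A] B)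
    (hfg : ∀ x, f x - g x ∈ J) : f = g := by
  obtain ⟨t, ht, ht1⟩ := Algebra.FormallyUnramified.iff_exists_tensorProduct.mp
    (inferInstance : Algebra.FormallyUnramified A S)
  let Φ : TensorProduct A S S →ₐ[A] B := Algebra.TensorProduct.lift f g fun _ _ => Commute.all _ _
  have hu : IsUnit (Φ t) := by
    refine isUnit_of_sub_one_mem hJ ?_
    rw [← Ideal.Quotient.eq, map_one]
    have : (Ideal.Quotient.mkₐ A J).comp Φ =
        ((Ideal.Quotient.mkₐ A J).comp f).comp (Algebra.TensorProduct.lmul' A) := by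
      refine Algebra.TensorProduct.ext' fun x y => ?_
      simp [Φ, Ideal.Quotient.eq.mpr (hfg y)]
    have := DFunLike.congr_fun this t
    simpa [ht1] using this
  refine AlgHom.ext fun x => ?_
  have := congrArg Φ (ht x)
  rw [map_mul, map_zero, map_sub] at this
  have h0 : Φ ((1 : S) ⊗ₜ[A] x) - Φ (x ⊗ₜ[A] (1 : S)) = 0 := hu.mul_left_eq_zero.mp this
  simp [Φ, sub_eq_zero] at h0
  exact h0.symm

/-- Lifting of sections of standard étale algebras gives the henselian property. -/
theorem henselianRing_of_etale_lift (I : Ideal A)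
    (h : ∀ (S : Type u) [CommRing S] [Algebra A S] [Algebra.Etale A S] (σ : S →ₐ[A] A ⧸ I),
      ∃ τ : S →ₐ[A] A, (Ideal.Quotient.mkₐ A I).comp τ = σ) :
    HenselianRing A I := by
  constructor
  · intro x hx
    rw [Ideal.mem_jacobson_bot]
    intro y
    have hmem : x * y ∈ I := I.mul_mem_right _ hx
    let S := Localization.Away (x * y + 1)
    have : Algebra.Etale A S := Algebra.Etale.of_isLocalizationAway (x * y + 1)
    have h1 : IsUnit (Ideal.Quotient.mkₐ A I (x * y + 1)) := by
      simp [Ideal.Quotient.eq_zero_iff_mem.mpr hmem]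
    obtain ⟨τ, -⟩ := h S (IsLocalization.Away.liftAlgHom (x * y + 1)
      (f := Algebra.ofId A (A ⧸ I)) h1)
    have := (IsLocalization.Away.algebraMap_isUnit (S := S) (x * y + 1)).map τ
    simpa using this
  · intro f hf a₀ h1 h2
    let P : StandardEtalePair A := ⟨f, hf, derivative f, 1, 0, 1, by simp⟩
    have hmap : P.HasMap (Ideal.Quotient.mk I a₀) := by
      refine ⟨?_, ?_⟩
      · rw [← Ideal.Quotient.algebraMap_eq, aeval_algebraMap_apply_eq_algebraMap_eval,
          Ideal.Quotient.algebraMap_eq]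
        exact Ideal.Quotient.eq_zero_iff_mem.mpr h1
      · rw [← Ideal.Quotient.algebraMap_eq, aeval_algebraMap_apply_eq_algebraMap_eval,
          Ideal.Quotient.algebraMap_eq]
        exact h2
    obtain ⟨τ, hτ⟩ := h P.Ring (P.lift _ hmap)
    refine ⟨τ P.X, ?_, ?_⟩
    · have := (StandardEtalePair.hasMap_X (P := P)).map τ
      rw [IsRoot.def]
      simpa [StandardEtalePair.HasMap, P] using this.1
    · rw [← Ideal.Quotient.eq]
      have := DFunLike.congr_fun hτ P.X
      simpa using this

theorem henselianRing_of_gabberRoots (h : GabberRoots I) : HenselianRing A I :=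
  henselianRing_of_etale_lift I fun _ _ _ _ σ => exists_algHom_lift_of_gabberRoots h σ

/-- Lifting of sections of étale algebras over a henselian pair. -/
theorem exists_algHom_lift (I : Ideal A) [HenselianRing A I] {S : Type v} [CommRing S]
    [Algebra A S] [Algebra.Etale A S] (σ : S →ₐ[A] A ⧸ I) :
    ∃ τ : S →ₐ[A] A, (Ideal.Quotient.mkₐ A I).comp τ = σ :=
  exists_algHom_lift_of_gabberRoots (gabberRoots_of_henselianRing I) σ

end Groth.L05
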