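import Groth.Agent.L05.Hensel.Smooth
import Groth.Agent.L05.Hensel.Homs
import Mathlib.AlgebraicGeometry.Morphisms.Smooth
import Mathlib.AlgebraicGeometry.Morphisms.Etale
import Mathlib.AlgebraicGeometry.Morphisms.FormallyUnramified
import Mathlib.AlgebraicGeometry.Morphisms.Separated
import Mathlib.RingTheory.Jacobson.Ideal

/-!
# Sections over Henselian local rings; agreement loci
-/

universe u

open CategoryTheory CategoryTheory.Limits AlgebraicGeometry

namespace Groth.L05.SecLift

/-- Two morphisms to an unramified scheme agree on an open neighbourhood of any locus where they agree; the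
locus is closed when the target is separated. -/
theorem exists_agree_open {X Y S : Scheme.{u}} (h : Y ⟶ S) [FormallyUnramified h] [LocallyOfFiniteType h]
    (f g : X ⟶ Y) (w : f ≫ h = g ≫ h) :
    ∃ E : X.Opens, E.ι ≫ f = E.ι ≫ g ∧ (IsSeparated h → IsClosed (E : Set X)) ∧
      ∀ {T : Scheme.{u}} (t : T ⟶ X), t ≫ f = t ≫ g → Set.range t.base ⊆ E := by
  let Δ := pullback.diagonal h
  let p : X ⟶ pullback.diagonalObj h := pullback.lift f g w
  refine ⟨p ⁻¹ᵁ Δ.opensRange, ?_, fun hs => ?_, fun {T} t ht => ?_⟩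
  · let s : ((p ⁻¹ᵁ Δ.opensRange : X.Opens) : Scheme.{u}) ⟶ Y :=
      IsOpenImmersion.lift Δ ((p ⁻¹ᵁ Δ.opensRange).ι ≫ p) (by
        rintro _ ⟨x, rfl⟩
        exact x.2)
    have hs : s ≫ Δ = (p ⁻¹ᵁ Δ.opensRange).ι ≫ p := IsOpenImmersion.lift_fac _ _ _
    have h1 := hs =≫ pullback.fst h h
    have h2 := hs =≫ pullback.snd h h
    rw [Category.assoc, Category.assoc, pullback.diagonal_fst, pullback.lift_fst, Category.comp_id] at h1
    rw [Category.assoc, Category.assoc, pullback.diagonal_snd, pullback.lift_snd, Category.comp_id] at h2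
    rw [← h1, ← h2]
  · haveI := hs
    exact Δ.isClosedEmbedding.isClosed_range.preimage p.continuous
  · rintro _ ⟨x, rfl⟩
    have : t ≫ p = (t ≫ f) ≫ Δ := by
      apply pullback.hom_ext
      · rw [Category.assoc, pullback.lift_fst, Category.assoc, pullback.diagonal_fst, Category.comp_id]
      · rw [Category.assoc, pullback.lift_snd, Category.assoc, pullback.diagonal_snd, Category.comp_id, ht]
    exact ⟨(t ≫ f).base x, by rw [← Scheme.Hom.comp_apply, ← this, Scheme.Hom.comp_apply]⟩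

/-- An open subset of an affine scheme containing the zero locus of an ideal in the radical is everything. -/
theorem eq_top_of_zeroLocus_subset {R : Type u} [CommRing R] {I : Ideal R} (hI : I ≤ (⊥ : Ideal R).jacobson)
    (E : (Spec (CommRingCat.of R)).Opens) (hE : ∀ q : PrimeSpectrum R, q ∈ PrimeSpectrum.zeroLocus (I : Set R) → q ∈ E) :
    E = ⊤ := by
  refine TopologicalSpace.Opens.ext (Set.eq_univ_of_forall fun p => ?_)
  obtain ⟨m, hm, hpm⟩ := Ideal.exists_le_maximal (p : PrimeSpectrum R).asIdeal p.isPrime.ne_top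
  have h1 : (⟨m, hm.isPrime⟩ : PrimeSpectrum R) ∈ E := hE _ (fun a ha => (hI.trans (sInf_le ⟨bot_le, hm⟩)) ha)
  have h2 : p ⤳ (⟨m, hm.isPrime⟩ : PrimeSpectrum R) := (PrimeSpectrum.le_iff_specializes _ _).1 hpm
  exact h2.mem_open E.2 h1

/-- Sections of an unramified scheme agreeing modulo an ideal in the radical agree. -/
theorem section_ext {R : Type u} [CommRing R] {I : Ideal R} (hI : I ≤ (⊥ : Ideal R).jacobson)
    {X : Scheme.{u}} (p : X ⟶ Spec (CommRingCat.of R)) [FormallyUnramified p] [LocallyOfFiniteType p]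
    (t₁ t₂ : Spec (CommRingCat.of R) ⟶ X) (w : t₁ ≫ p = t₂ ≫ p)
    (h : Spec.map (CommRingCat.ofHom (Ideal.Quotient.mk I)) ≫ t₁ =
      Spec.map (CommRingCat.ofHom (Ideal.Quotient.mk I)) ≫ t₂) : t₁ = t₂ := by
  obtain ⟨E, hE, -, hmax⟩ := exists_agree_open p t₁ t₂ w
  have hE' := eq_top_of_zeroLocus_subset hI E fun q hq => hmax _ h (by
    show q ∈ Set.range (PrimeSpectrum.comap (Ideal.Quotient.mk I))
    rw [range_comap_of_surjective _ _ Ideal.Quotient.mk_surjective, Ideal.mk_ker]
    exact hq)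
  subst hE'
  haveI : Epi (Scheme.Opens.ι (⊤ : (Spec (CommRingCat.of R)).Opens)) := by
    rw [← Scheme.topIso_hom]; infer_instance
  exact (cancel_epi _).1 hE

/-- A point of a smooth scheme over a Henselian local ring in the residue field extends to a section. -/
theorem exists_section {A : Type u} [CommRing A] [HenselianLocalRing A]
    {X : Scheme.{u}} (f : X ⟶ Spec (CommRingCat.of A)) [Smooth f]
    (u₀ : Spec (CommRingCat.of (IsLocalRing.ResidueField A)) ⟶ X)
    (h₀ : u₀ ≫ f = Spec.map (CommRingCat.ofHom (IsLocalRing.residue A))) :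
    ∃ u : Spec (CommRingCat.of A) ⟶ X, u ≫ f = 𝟙 _ ∧
      Spec.map (CommRingCat.ofHom (IsLocalRing.residue A)) ≫ u = u₀ := by
  let x := u₀.base (IsLocalRing.closedPoint (IsLocalRing.ResidueField A))
  obtain ⟨_, ⟨U, hU, rfl⟩, hxU, -⟩ :=
    X.isBasis_affineOpens.exists_subset_of_mem_open (Set.mem_univ x) isOpen_univ
  let j : Spec (CommRingCat.of (IsLocalRing.ResidueField A)) ⟶ Spec Γ(X, U) :=
    IsOpenImmersion.lift hU.fromSpec u₀ (by
      rw [hU.range_fromSpec]
      rintro _ ⟨z, rfl⟩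
      rw [Subsingleton.elim z (IsLocalRing.closedPoint (IsLocalRing.ResidueField A))]
      exact hxU)
  have hj : j ≫ hU.fromSpec = u₀ := IsOpenImmersion.lift_fac _ _ _
  obtain ⟨φ, hφ⟩ := Spec.map_surjective (hU.fromSpec ≫ f)
  obtain ⟨σ₀, hσ₀⟩ := Spec.map_surjective j
  have hsm : φ.hom.Smooth := by
    rw [← HasRingHomProperty.Spec_iff (P := @Smooth), hφ]
    infer_instance
  letI : Algebra A Γ(X, U) := φ.hom.toAlgebra
  haveI : Algebra.Smooth A Γ(X, U) := hsm
  let σ : Γ(X, U) →ₐ[A] A ⧸ IsLocalRing.maximalIdeal A :=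
    { toRingHom := σ₀.hom
      commutes' := fun a => by
        have h1 : Spec.map σ₀ ≫ Spec.map φ = Spec.map (CommRingCat.ofHom (IsLocalRing.residue A)) := by
          rw [hσ₀, hφ, ← Category.assoc, hj, h₀]
        rw [← Spec.map_comp] at h1
        exact RingHom.congr_fun (congrArg CommRingCat.Hom.hom (Spec.map_injective h1)) a }
  obtain ⟨τ, hτ⟩ := exists_algHom_lift_smooth (IsLocalRing.maximalIdeal A) σ
  refine ⟨Spec.map (CommRingCat.ofHom τ.toRingHom) ≫ hU.fromSpec, ?_, ?_⟩
  · rw [Category.assoc, ← hφ, ← Spec.map_comp, ← Spec.map_id]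
    congr 1
    exact CommRingCat.hom_ext τ.comp_algebraMap
  · rw [← Category.assoc, ← Spec.map_comp, ← hj, ← hσ₀]
    congr 2
    exact CommRingCat.hom_ext (congrArg AlgHom.toRingHom hτ)

end Groth.L05.SecLift
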