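import Groth.Agent.L05.Hensel.Gabber
import Mathlib.RingTheory.ZariskisMainTheorem
import Mathlib.RingTheory.Etale.Basic
import Mathlib.RingTheory.Unramified.LocalStructure
import Mathlib.RingTheory.Unramified.Finite
import Mathlib.RingTheory.Idempotents

/-!
Splitting off the finite part of an algebra over a henselian pair by Zariski's main theorem.
-/

set_option autoImplicit false

namespace Groth.L05

variable {A : Type*} [CommRing A] {S : Type*} [CommRing S] [Algebra A S]

/-- An integral ring map sending an ideal to the unit ideal: the ideal was already the unit ideal. -/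
theorem eq_top_of_map_eq_top_of_isIntegral {C Q : Type*} [CommRing C] [CommRing Q] [Algebra C Q]
    [Algebra.IsIntegral C Q] (hinj : Function.Injective (algebraMap C Q)) {J : Ideal C}
    (h : J.map (algebraMap C Q) = ⊤) : J = ⊤ := by
  by_contra hJ
  obtain ⟨P, hP, hJP⟩ := Ideal.exists_le_maximal J hJ
  obtain ⟨P', hP', rfl⟩ := Ideal.exists_ideal_over_maximal_of_isIntegral (R := C) (S := Q) P
    (by rw [(RingHom.injective_iff_ker_eq_bot _).mp hinj]; exact bot_le)
  exact hP'.ne_top (top_unique (h ▸ Ideal.map_le_iff_le_comap.mpr hJP))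

theorem pow_mul_mem_of_le {S' : Subalgebra A S} {r x : S} (hr : r ∈ S') {m m' : ℕ}
    (h : r ^ m * x ∈ S') (hm : m ≤ m') : r ^ m' * x ∈ S' := by
  obtain ⟨d, rfl⟩ := Nat.exists_eq_add_of_le hm
  rw [pow_add, mul_comm (r ^ m), mul_assoc]
  exact S'.mul_mem (S'.pow_mem hr d) h

/-- From Zariski's main theorem: over the locus `D(ε) ∩ V(IS)` where `S` is quasi-finite there is a
finite subalgebra `C` and finitely many `r` in it with `S` and `C` equal away from `V(r)`. -/
theorem exists_finite_subalgebra_cover [Algebra.FiniteType A S] (I : Ideal A) (ε : S)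
    (hqf : ∀ p : Ideal S, ∀ [p.IsPrime], I.map (algebraMap A S) ≤ p → ε ∉ p →
      Algebra.QuasiFiniteAt A p) :
    ∃ (C : Subalgebra A S) (t : Finset S), C.toSubmodule.FG ∧ (∀ r ∈ t, r ∈ C) ∧
      (∀ r ∈ t, ∀ x : S, ∃ m : ℕ, r ^ m * x ∈ C) ∧
      Ideal.span (t : Set S) ⊔ Ideal.span {1 - ε} ⊔ I.map (algebraMap A S) = ⊤ := by
  classical
  let G : Set S := {r | IsIntegral A r ∧ ∀ x : S, ∃ m : ℕ, IsIntegral A (r ^ m * x)}
  have htop : Ideal.span G ⊔ Ideal.span {1 - ε} ⊔ I.map (algebraMap A S) = ⊤ := by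
    by_contra h
    obtain ⟨p, hp, hle⟩ := Ideal.exists_le_maximal _ h
    have hIp : I.map (algebraMap A S) ≤ p := le_sup_right.trans hle
    have hεp : ε ∉ p := fun hε => by
      have : 1 - ε ∈ p := hle (Ideal.mem_sup_left (Ideal.mem_sup_right (Ideal.subset_span rfl)))
      have h1 := p.add_mem this hε
      rw [sub_add_cancel] at h1
      exact hp.ne_top ((Ideal.eq_top_iff_one _).mpr h1)
    have := hqf p hIp hεp
    obtain ⟨r, hrp, hr, hx⟩ := Algebra.zariskisMainProperty_iff.mp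
      (Algebra.ZariskisMainProperty.of_finiteType (R := A) p)
    exact hrp (hle (Ideal.mem_sup_left (Ideal.mem_sup_left (Ideal.subset_span ⟨hr, hx⟩))))
  obtain ⟨t, htG, ht⟩ : ∃ t : Finset S, (t : Set S) ⊆ G ∧
      Ideal.span (t : Set S) ⊔ Ideal.span {1 - ε} ⊔ I.map (algebraMap A S) = ⊤ := by
    have h1 : (1 : S) ∈ Ideal.span G ⊔ Ideal.span {1 - ε} ⊔ I.map (algebraMap A S) :=
      htop ▸ Submodule.mem_top
    rw [sup_assoc, Submodule.mem_sup] at h1
    obtain ⟨a, ha, b, hb, hab⟩ := h1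
    obtain ⟨t, htG, hat⟩ := Submodule.mem_span_finite_of_mem_span ha
    refine ⟨t, htG, (Ideal.eq_top_iff_one _).mpr ?_⟩
    have h2 := Submodule.add_mem_sup hat hb
    rw [hab] at h2
    rwa [sup_assoc]
  obtain ⟨s, hs⟩ := Algebra.FiniteType.out (R := A) (A := S)
  choose! m hm using fun r (hr : r ∈ t) x => (htG hr).2 x
  let gens : Finset S := t ∪ (t ×ˢ s).image (fun p => p.1 ^ m p.1 p.2 * p.2)
  let C := Algebra.adjoin A (gens : Set S)
  refine ⟨C, t, ?_, fun r hr => Algebra.subset_adjoin (by simp [gens, hr]), ?_, ht⟩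
  · refine fg_adjoin_of_finite gens.finite_toSet ?_
    intro x hx
    simp only [gens, Finset.coe_union, Finset.coe_image, Set.mem_union, Finset.mem_coe,
      Set.mem_image, Finset.mem_product] at hx
    rcases hx with hx | ⟨⟨a, b⟩, hp, rfl⟩
    · exact (htG hx).1
    · exact hm a hp.1 b
  · intro r hr x
    have hrC : r ∈ C := Algebra.subset_adjoin (by simp [gens, hr])
    have hx : x ∈ Algebra.adjoin A (s : Set S) := hs ▸ Algebra.mem_top
    induction hx using Algebra.adjoin_induction with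
    | mem y hy =>
      exact ⟨m r y, Algebra.subset_adjoin (by
        simp only [gens, Finset.coe_union, Finset.coe_image, Set.mem_union, Set.mem_image,
          Finset.mem_coe, Finset.mem_product]
        exact Or.inr ⟨(r, y), ⟨hr, hy⟩, rfl⟩)⟩
    | algebraMap a => exact ⟨0, by simpa using C.algebraMap_mem a⟩
    | add y z _ _ hy hz =>
      obtain ⟨k, hk⟩ := hy; obtain ⟨l, hl⟩ := hz
      refine ⟨max k l, ?_⟩
      rw [mul_add]
      exact C.add_mem (pow_mul_mem_of_le hrC hk (le_max_left k l))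
        (pow_mul_mem_of_le hrC hl (le_max_right k l))
    | mul y z _ _ hy hz =>
      obtain ⟨k, hk⟩ := hy; obtain ⟨l, hl⟩ := hz
      exact ⟨k + l, by rw [pow_add, mul_mul_mul_comm]; exact C.mul_mem hk hl⟩

/-- The subalgebra elements `x` with `r ^ m * x` in a subalgebra for all `r` in a finite set, for
some uniform `m`. -/
theorem exists_pow_mul_mem_forall {C : Subalgebra A S} {t : Finset S} (htC : ∀ r ∈ t, r ∈ C)
    (ht : ∀ r ∈ t, ∀ x : S, ∃ m : ℕ, r ^ m * x ∈ C) (x : S) :
    ∃ M : ℕ, ∀ r ∈ t, ∀ m ≥ M, r ^ m * x ∈ C := by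
  classical
  choose! m hm using ht
  exact ⟨t.sup (fun r => m r x), fun r hr k hk =>
    pow_mul_mem_of_le (htC r hr) (hm r hr x) (le_trans (Finset.le_sup (f := fun r => m r x) hr) hk)⟩

/-- For `u` in the ideal of `C` generated by `t`, some power of `u` moves any element into `C`. -/
theorem exists_pow_mul_mem_of_mem_span {C : Subalgebra A S} {t : Finset S}
    (htC : ∀ r ∈ t, r ∈ C) (ht : ∀ r ∈ t, ∀ x : S, ∃ m : ℕ, r ^ m * x ∈ C) {u : C}
    (hu : u ∈ Ideal.span {c : C | (c : S) ∈ t}) (x : S) :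
    ∃ N : ℕ, (u : S) ^ N * x ∈ C := by
  classical
  have hrad : Ideal.span {c : C | (c : S) ∈ t} ≤
      Ideal.radical
        ({ carrier := {c : C | (c : S) * x ∈ C}
           add_mem' := fun {a b} ha hb => by
             show ((a + b : C) : S) * x ∈ C
             push_cast; rw [add_mul]; exact C.add_mem ha hb
           zero_mem' := by
             show ((0 : C) : S) * x ∈ C
             simp
           smul_mem' := fun c a ha => by
             show ((c * a : C) : S) * x ∈ C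
             push_cast; rw [mul_assoc]; exact C.mul_mem c.2 ha } : Ideal C) := by
    rw [Ideal.span_le]
    intro c hc
    obtain ⟨m, hm⟩ := ht _ hc x
    exact ⟨m, by show ((c ^ m : C) : S) * x ∈ C; push_cast; exact hm⟩
  obtain ⟨N, hN⟩ := hrad hu
  exact ⟨N, by have : ((u ^ N : C) : S) * x ∈ C := hN; push_cast at this; exact this⟩

/-- The finite part of `S` over `D(ε) ∩ V(IS)`, before lifting the idempotent. -/
theorem exists_prelift [Algebra.FiniteType A S] (I : Ideal A) (ε : S)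
    (hε : ε * ε - ε ∈ I.map (algebraMap A S))
    (hqf : ∀ p : Ideal S, ∀ [p.IsPrime], I.map (algebraMap A S) ≤ p → ε ∉ p →
      Algebra.QuasiFiniteAt A p)
    (hint : ∀ x : S, IsIntegral A
      (Ideal.Quotient.mk (I.map (algebraMap A S) ⊔ Ideal.span {1 - ε}) x)) :
    ∃ (C : Subalgebra A S) (t : Finset S) (v : C), C.toSubmodule.FG ∧ (∀ r ∈ t, r ∈ C) ∧
      (∀ r ∈ t, ∀ x : S, ∃ m : ℕ, r ^ m * x ∈ C) ∧ v ∈ Ideal.span {c : C | (c : S) ∈ t} ∧
      v * v - v ∈ I.map (algebraMap A C) ∧ (v : S) - ε ∈ I.map (algebraMap A S) ∧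
      ∀ y : C, (y : S) ∈ I.map (algebraMap A S) → v * y ∈ I.map (algebraMap A C) := by
  classical
  obtain ⟨C, t, hCfg, htC, ht, htop⟩ := exists_finite_subalgebra_cover I ε hqf
  set J := I.map (algebraMap A S)
  set Q := S ⧸ (J ⊔ Ideal.span {1 - ε})
  let φ : C →+* Q := (Ideal.Quotient.mk _).comp C.val.toRingHom
  let C' := φ.range
  obtain ⟨M, hM⟩ := exists_pow_mul_mem_forall htC ht ε
  let G : Set C' := {c | ∃ r ∈ t, (c : Q) = Ideal.Quotient.mk _ (r ^ (M + 1))}
  have hG : Ideal.span G = ⊤ := by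
    have : Algebra.IsIntegral C' Q := ⟨fun q => by
      obtain ⟨x, rfl⟩ := Ideal.Quotient.mk_surjective q
      exact (hint x).map_of_comp_eq
        ((φ.rangeRestrict).comp (algebraMap A C)) (RingHom.id _) (by ext a; rfl)⟩
    refine eq_top_of_map_eq_top_of_isIntegral (Q := Q) Subtype.val_injective ?_
    rw [Ideal.map_span]
    have h1 : Ideal.span ((fun r => r ^ (M + 1)) '' (t : Set S)) ⊔ (J ⊔ Ideal.span {1 - ε}) = ⊤ := by
      rw [← Ideal.radical_eq_top, Ideal.radical_sup]
      have hle : Ideal.span (t : Set S) ≤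
          (Ideal.span ((fun r => r ^ (M + 1)) '' (t : Set S))).radical := by
        rw [Ideal.span_le]
        exact fun r hr => ⟨M + 1, Ideal.subset_span ⟨r, hr, rfl⟩⟩
      apply top_unique
      rw [← htop, sup_assoc, sup_comm (Ideal.span {1 - ε})]
      exact (sup_le_sup hle Ideal.le_radical).trans Ideal.le_radical
    have h2 : (Ideal.span ((fun r => r ^ (M + 1)) '' (t : Set S))).map (Ideal.Quotient.mk _) =
        (⊤ : Ideal Q) := by
      have := congrArg (Ideal.map (Ideal.Quotient.mk (J ⊔ Ideal.span {1 - ε}))) h1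
      rwa [Ideal.map_sup, Ideal.map_quotient_self, sup_bot_eq, Ideal.map_top] at this
    apply top_unique
    rw [← h2, Ideal.map_span, Ideal.span_le]
    rintro _ ⟨_, ⟨r, hr, rfl⟩, rfl⟩
    exact Ideal.subset_span ⟨⟨_, ⟨⟨r ^ (M + 1), C.pow_mem (htC r hr) _⟩, rfl⟩⟩, ⟨r, hr, rfl⟩, rfl⟩
  -- pull back the relation `1 = ∑ c_r r ^ (M + 1)`
  have hone : ∃ w : C, w ∈ Ideal.span {c : C | ∃ r ∈ t, (c : S) = r ^ (M + 1)} ∧
      Ideal.Quotient.mk (J ⊔ Ideal.span {1 - ε}) (w : S) = 1 := by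
    have : (1 : C') ∈ (Ideal.span {c : C | ∃ r ∈ t, (c : S) = r ^ (M + 1)}).map φ.rangeRestrict := by
      rw [Ideal.map_span]
      refine Ideal.span_mono ?_ (hG ▸ Submodule.mem_top)
      rintro c ⟨r, hr, hc⟩
      exact ⟨⟨r ^ (M + 1), C.pow_mem (htC r hr) _⟩, ⟨r, hr, rfl⟩, Subtype.ext hc.symm⟩
    obtain ⟨w, hw, hw1⟩ := (Ideal.mem_map_iff_of_surjective _ φ.rangeRestrict_surjective).mp this
    exact ⟨w, hw, congrArg Subtype.val hw1⟩
  obtain ⟨w, hw, hw1⟩ := hone
  have hwε : ∀ c ∈ Ideal.span {c : C | ∃ r ∈ t, (c : S) = r ^ (M + 1)},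
      ∃ c' ∈ Ideal.span {c : C | (c : S) ∈ t}, (c' : S) = (c : S) * ε := by
    intro c hc
    induction hc using Submodule.span_induction with
    | mem c hc =>
      obtain ⟨r, hr, hc⟩ := hc
      refine ⟨⟨r, htC r hr⟩ * ⟨r ^ M * ε, hM r hr M le_rfl⟩,
        Ideal.mul_mem_right _ _ (Ideal.subset_span hr), ?_⟩
      push_cast; rw [hc, pow_succ']; ring
    | zero => exact ⟨0, zero_mem _, by simp⟩
    | add a b _ _ ha hb =>
      obtain ⟨a', ha', ha''⟩ := ha; obtain ⟨b', hb', hb''⟩ := hb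
      exact ⟨a' + b', add_mem ha' hb', by push_cast; rw [ha'', hb'', add_mul]⟩
    | smul a b _ hb =>
      obtain ⟨b', hb', hb''⟩ := hb
      exact ⟨a * b', Ideal.mul_mem_left _ _ hb', by
        rw [smul_eq_mul]; push_cast; rw [hb'', mul_assoc]⟩
  obtain ⟨u, hu, huw⟩ := hwε w hw
  have huε : (u : S) - ε ∈ J := by
    have : (w : S) - 1 ∈ J ⊔ Ideal.span {1 - ε} := Ideal.Quotient.eq.mp (hw1.trans (map_one _).symm)
    obtain ⟨j, hj, k, hk, hjk⟩ := Submodule.mem_sup.mp this
    obtain ⟨c, rfl⟩ := Ideal.mem_span_singleton'.mp hk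
    have : (u : S) - ε = j * ε + c * (ε - ε * ε) := by rw [huw]; linear_combination (-ε) * hjk
    rw [this]
    exact add_mem (J.mul_mem_right _ hj) (J.mul_mem_left _ (by rw [← neg_sub]; exact neg_mem hε))
  -- powers of `u` push `J ∩ C` into `I C`
  have hpush : ∀ y : C, (y : S) ∈ J → ∃ N, u ^ N * y ∈ I.map (algebraMap A C) := by
    have key : ∀ z ∈ J, ∃ N, ∃ z' ∈ I.map (algebraMap A C), (z' : S) = (u : S) ^ N * z := by
      intro z hz
      induction hz using Submodule.span_induction with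
      | mem z hz =>
        obtain ⟨i, hi, rfl⟩ := hz
        exact ⟨0, algebraMap A C i, Ideal.mem_map_of_mem _ hi, by simp⟩
      | zero => exact ⟨0, 0, zero_mem _, by simp⟩
      | add a b _ _ ha hb =>
        obtain ⟨N, a', ha', ha''⟩ := ha; obtain ⟨N', b', hb', hb''⟩ := hb
        exact ⟨N + N', u ^ N' * a' + u ^ N * b', add_mem (Ideal.mul_mem_left _ _ ha')
          (Ideal.mul_mem_left _ _ hb'), by push_cast; rw [ha'', hb'', pow_add]; ring⟩
      | smul a b _ hb =>
        obtain ⟨N, b', hb', hb''⟩ := hb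
        obtain ⟨N', hN'⟩ := exists_pow_mul_mem_of_mem_span htC ht hu a
        exact ⟨N' + N, ⟨_, hN'⟩ * b', Ideal.mul_mem_left _ _ hb', by
          push_cast; rw [hb'', smul_eq_mul, pow_add]; ring⟩
    intro y hy
    obtain ⟨N, z', hz', hz''⟩ := key _ hy
    exact ⟨N, by rwa [show u ^ N * y = z' from Subtype.ext (by push_cast; rw [hz''])]⟩
  have huidem : ((u * u - u : C) : S) ∈ J := by
    push_cast
    have : (u : S) * u - u = ((u : S) - ε) * ((u : S) + ε) + (ε * ε - ε) - ((u : S) - ε) := by ring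
    rw [this]
    exact sub_mem (add_mem (J.mul_mem_right _ huε) hε) huε
  obtain ⟨k, hk⟩ := hpush _ huidem
  set φC := Ideal.Quotient.mk (I.map (algebraMap A C))
  have hv : φC u ^ (k + 1) * φC u = φC u ^ (k + 1) := by
    rw [← Ideal.Quotient.eq_zero_iff_mem, map_mul, map_sub, map_mul, map_pow] at hk
    linear_combination hk
  have hstable : ∀ n, φC u ^ (k + 1 + n) = φC u ^ (k + 1) := fun n => by
    induction n with
    | zero => rfl
    | succ n ih => rw [← add_assoc, pow_succ, ih, hv]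
  refine ⟨C, t, u ^ (k + 1), hCfg, htC, ht, Ideal.pow_mem_of_mem _ hu _ (Nat.succ_pos k), ?_, ?_, ?_⟩
  · rw [← Ideal.Quotient.eq_zero_iff_mem, map_sub, map_mul, map_pow, ← pow_add, hstable, sub_self]
  · push_cast
    let φS := Ideal.Quotient.mk J
    rw [← Ideal.Quotient.eq, map_pow, Ideal.Quotient.eq.mpr huε]
    have : IsIdempotentElem (φS ε) := by
      unfold IsIdempotentElem; rw [← map_mul]; exact Ideal.Quotient.eq.mpr hε
    exact this.pow_succ_eq k
  · intro y hy
    obtain ⟨N, hN⟩ := hpush y hy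
    have h0 : φC u ^ N * φC y = 0 := by
      rw [← map_pow, ← map_mul]; exact Ideal.Quotient.eq_zero_iff_mem.mpr hN
    rw [← Ideal.Quotient.eq_zero_iff_mem, map_mul, map_pow, ← hstable N, pow_add, mul_assoc, h0,
      mul_zero]

/-- After lifting the idempotent, the finite subalgebra contains the whole idempotent piece. -/
theorem idem_piece_le {I : Ideal A} (hI : I ≤ Ideal.jacobson ⊥) {C : Subalgebra A S}
    (hC : C.toSubmodule.FG) {t : Finset S} (htC : ∀ r ∈ t, r ∈ C)
    (ht : ∀ r ∈ t, ∀ x : S, ∃ m : ℕ, r ^ m * x ∈ C) {v e : C}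
    (hv : v ∈ Ideal.span {c : C | (c : S) ∈ t}) (he : IsIdempotentElem e)
    (hev : e - v ∈ I.map (algebraMap A C)) (x : S) : (e : S) * x ∈ C := by
  have : Module.Finite A C := ⟨(Submodule.fg_top _).mpr hC⟩
  have hmem : e ∈ Ideal.span {c : C | (c : S) ∈ t} := by
    have htop : Ideal.span {c : C | (c : S) ∈ t} ⊔ Ideal.span {1 - e} = ⊤ := by
      rw [Ideal.eq_top_iff_one]
      set Q := Ideal.span {c : C | (c : S) ∈ t} ⊔ Ideal.span {1 - e}
      obtain ⟨q, hq, j, hj, hqj⟩ : ∃ q ∈ Q, ∃ j ∈ I.map (algebraMap A C), q + j = 1 :=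
        ⟨v + (1 - e), add_mem (Ideal.mem_sup_left hv)
          (Ideal.mem_sup_right (Ideal.subset_span rfl)), e - v, hev, by ring⟩
      have hu : IsUnit q := by
        refine isUnit_of_sub_one_mem (map_le_jacobson_bot (C := C) hI) ?_
        rw [← hqj, sub_add_cancel_left]
        exact neg_mem hj
      exact (Ideal.eq_top_iff_one _).mp (Ideal.eq_top_of_isUnit_mem _ hq hu)
    have h1 : (1 : C) ∈ Ideal.span {c : C | (c : S) ∈ t} ⊔ Ideal.span {1 - e} :=
      htop ▸ Submodule.mem_top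
    obtain ⟨a, ha, b, hb, hab⟩ := Submodule.mem_sup.mp h1
    obtain ⟨c, rfl⟩ := Ideal.mem_span_singleton'.mp hb
    have : e = a * e := by linear_combination (-e) * hab + (-c) * he.eq
    rw [this]
    exact Ideal.mul_mem_right _ _ ha
  obtain ⟨N, hN⟩ := exists_pow_mul_mem_of_mem_span htC ht hmem x
  have heS : IsIdempotentElem (e : S) := he.map C.val
  rcases Nat.eq_zero_or_pos N with rfl | hNpos
  · exact C.mul_mem e.2 (by simpa using hN)
  · obtain ⟨m, rfl⟩ := Nat.exists_eq_add_of_le hNpos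
    rwa [show 0 + 1 + m = m + 1 by omega, heS.pow_succ_eq m] at hN

end Groth.L05
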