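import Groth.Agent.L05.Hensel.Perm

/-!
Uniqueness of the root in Gabber's criterion.
-/

set_option autoImplicit false

open Polynomial

namespace Groth.L05

theorem map_eq_of_le {A : Type*} [CommRing A] {B : Type*} [CommRing B] {I : Ideal A} {J : Ideal B}
    (φ : A →+* B) (h : I.map φ ≤ J) {f : A[X]} {n : ℕ}
    (hmap : f.map (Ideal.Quotient.mk I) = X ^ n * (X - 1)) :
    (f.map φ).map (Ideal.Quotient.mk J) = X ^ n * (X - 1) := by
  have hle : I ≤ RingHom.ker ((Ideal.Quotient.mk J).comp φ) := fun x hx =>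
    Ideal.Quotient.eq_zero_iff_mem.mpr (h (Ideal.mem_map_of_mem _ hx))
  have := congrArg (Polynomial.map (Ideal.Quotient.lift I ((Ideal.Quotient.mk J).comp φ) hle)) hmap
  rw [Polynomial.map_map, Ideal.Quotient.lift_comp_mk, ← Polynomial.map_map] at this
  simpa using this

/-- A polynomial congruent to `X ^ n * (X - 1)` has at most one root congruent to `1`. -/
theorem gabber_root_unique {A : Type*} [CommRing A] {I : Ideal A} (hI : I ≤ Ideal.jacobson ⊥)
    {f : A[X]} {n : ℕ} (hmap : f.map (Ideal.Quotient.mk I) = X ^ n * (X - 1)) {α β : A}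
    (hα : α - 1 ∈ I) (hβ : β - 1 ∈ I) (hfα : f.IsRoot α) (hfβ : f.IsRoot β) : β = α := by
  obtain ⟨q, hq⟩ := dvd_iff_isRoot.mpr hfα
  have h2 := congrArg (fun r => eval β r) hq
  simp only [eval_mul, eval_sub, eval_X, eval_C] at h2
  have hu : IsUnit (q.eval β) := by
    refine isUnit_of_sub_one_mem hI ?_
    rw [← Ideal.Quotient.eq, ← eval_map_apply]
    have hq' := congrArg (Polynomial.map (Ideal.Quotient.mk I)) hq
    rw [hmap, Polynomial.map_mul, Polynomial.map_sub, map_X, map_C, Ideal.Quotient.eq.mpr hα,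
      map_one, map_one, mul_comm] at hq'
    have hm : (X - 1 : (A ⧸ I)[X]).Monic := by simpa using monic_X_sub_C (1 : A ⧸ I)
    rw [← hm.isRegular.left hq', Ideal.Quotient.eq.mpr hβ]
    simp
  rw [hfβ] at h2
  exact sub_eq_zero.mp (hu.mul_left_eq_zero.mp h2.symm)

end Groth.L05
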